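import Mathlib
open MvPolynomial Pointwise

namespace Groth.Agent.H21.Cubic

variable {n : ℕ}

/-- A symmetric trilinear form representing a cubic form. -/
structure Rep (f : MvPolynomial (Fin n) ℂ)
    (T : (Fin n → ℂ) →ₗ[ℂ] (Fin n → ℂ) →ₗ[ℂ] (Fin n → ℂ) →ₗ[ℂ] ℂ) : Prop where
  symm12 : ∀ u v w, T u v w = T v u w
  symm23 : ∀ u v w, T u v w = T u w v
  eval_eq : ∀ v, eval v f = T v v v
  pderiv_eq : ∀ v i, eval v (pderiv i f) = 3 * T (Pi.single i 1) v v

/-- the basic trilinear monomial -/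
noncomputable def mono3 (a b c : Fin n) :
    (Fin n → ℂ) →ₗ[ℂ] (Fin n → ℂ) →ₗ[ℂ] (Fin n → ℂ) →ₗ[ℂ] ℂ :=
  (LinearMap.proj a).smulRight ((LinearMap.proj b).smulRight (LinearMap.proj c))

@[simp] lemma mono3_apply (a b c : Fin n) (u v w : Fin n → ℂ) :
    mono3 a b c u v w = u a * (v b * w c) := by
  simp [mono3]

lemma rep_XXX (a b c : Fin n) :
    Rep (X a * X b * X c : MvPolynomial (Fin n) ℂ)
      ((1 / 6 : ℂ) • (mono3 a b c + mono3 a c b + mono3 b a c + mono3 b c a + mono3 c a b +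
        mono3 c b a)) where
  symm12 u v w := by simp; ring
  symm23 u v w := by simp; ring
  eval_eq v := by simp; ring
  pderiv_eq v i := by
    simp only [Derivation.leibniz, pderiv_X, smul_eq_mul, map_add, map_mul, eval_X,
      LinearMap.smul_apply, LinearMap.add_apply, mono3_apply, Pi.single_apply]
    by_cases ha : a = i <;> by_cases hb : b = i <;> by_cases hc : c = i <;>
      simp [ha, hb, hc, eq_comm] <;> ring

lemma rep_zero : Rep (0 : MvPolynomial (Fin n) ℂ) 0 where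
  symm12 u v w := by simp
  symm23 u v w := by simp
  eval_eq v := by simp
  pderiv_eq v i := by simp

lemma Rep.add {f g : MvPolynomial (Fin n) ℂ} {T S} (hf : Rep f T) (hg : Rep g S) :
    Rep (f + g) (T + S) where
  symm12 u v w := by simp [hf.symm12 u v w, hg.symm12 u v w]
  symm23 u v w := by simp [hf.symm23 u v w, hg.symm23 u v w]
  eval_eq v := by simp [hf.eval_eq, hg.eval_eq]
  pderiv_eq v i := by simp [hf.pderiv_eq, hg.pderiv_eq]; ring

lemma Rep.smul {f : MvPolynomial (Fin n) ℂ} {T} (hf : Rep f T) (c : ℂ) :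
    Rep (c • f) (c • T) where
  symm12 u v w := by simp [hf.symm12 u v w]
  symm23 u v w := by simp [hf.symm23 u v w]
  eval_eq v := by simp [hf.eval_eq]
  pderiv_eq v i := by simp [hf.pderiv_eq]; ring

theorem exists_rep (f : MvPolynomial (Fin n) ℂ) (hf : f.IsHomogeneous 3) :
    ∃ T, Rep f T := by
  have h1 : f ∈ homogeneousSubmodule (Fin n) ℂ 3 := hf
  rw [← homogeneousSubmodule_one_pow, homogeneousSubmodule_one_eq_span_X, Submodule.span_pow] at h1
  clear hf
  induction h1 using Submodule.span_induction with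
  | mem x hx =>
    rw [pow_three'] at hx
    obtain ⟨xy, hxy, z, ⟨c, rfl⟩, rfl⟩ := hx
    obtain ⟨x, ⟨a, rfl⟩, y, ⟨b, rfl⟩, rfl⟩ := hxy
    exact ⟨_, rep_XXX a b c⟩
  | zero => exact ⟨0, rep_zero⟩
  | add x y _ _ hx hy =>
    obtain ⟨T, hT⟩ := hx
    obtain ⟨S, hS⟩ := hy
    exact ⟨T + S, hT.add hS⟩
  | smul c x _ hx =>
    obtain ⟨T, hT⟩ := hx
    exact ⟨c • T, hT.smul c⟩

end Groth.Agent.H21.Cubic
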