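import Mathlib
import Groth.Agent.H21.Cubic.Rep
open MvPolynomial

namespace Groth.Agent.H21.Cubic

variable {n : ℕ} {f : MvPolynomial (Fin n) ℂ}
  {T : (Fin n → ℂ) →ₗ[ℂ] (Fin n → ℂ) →ₗ[ℂ] (Fin n → ℂ) →ₗ[ℂ] ℂ}

namespace Rep

lemma symm13 (hT : Rep f T) (u v w : Fin n → ℂ) : T u v w = T w v u := by
  rw [hT.symm12 u v w, hT.symm23 v u w, hT.symm12 v w u]

lemma uwu (hT : Rep f T) (u w : Fin n → ℂ) : T u w u = T u u w := hT.symm23 u w u
lemma wuu (hT : Rep f T) (u w : Fin n → ℂ) : T w u u = T u u w := by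
  rw [hT.symm12 w u u, hT.symm23 u w u]
lemma wuw (hT : Rep f T) (u w : Fin n → ℂ) : T w u w = T u w w := hT.symm12 w u w
lemma wwu (hT : Rep f T) (u w : Fin n → ℂ) : T w w u = T u w w := by
  rw [hT.symm23 w w u, hT.symm12 w u w]

lemma cube_expand (hT : Rep f T) (u w : Fin n → ℂ) (a b : ℂ) :
    T (a • u + b • w) (a • u + b • w) (a • u + b • w) =
      a ^ 3 * T u u u + 3 * a ^ 2 * b * T u u w + 3 * a * b ^ 2 * T u w w + b ^ 3 * T w w w := by
  simp only [map_add, map_smul, LinearMap.add_apply, LinearMap.smul_apply, smul_eq_mul]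
  rw [hT.uwu u w, hT.wuu u w, hT.wuw u w, hT.wwu u w]
  ring

lemma cube_add_smul (hT : Rep f T) (u w : Fin n → ℂ) (s : ℂ) :
    T (u + s • w) (u + s • w) (u + s • w) =
      T u u u + 3 * s * T u u w + 3 * s ^ 2 * T u w w + s ^ 3 * T w w w := by
  have := hT.cube_expand u w 1 s
  simp only [one_smul] at this
  rw [this]; ring

lemma sq_expand (hT : Rep f T) (e u w : Fin n → ℂ) (a b : ℂ) :
    T e (a • u + b • w) (a • u + b • w) =
      a ^ 2 * T e u u + 2 * a * b * T e u w + b ^ 2 * T e w w := by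
  simp only [map_add, map_smul, LinearMap.add_apply, LinearMap.smul_apply, smul_eq_mul]
  rw [hT.symm23 e w u]
  ring

/-- smoothness in terms of `T` -/
lemma smooth_iff (hT : Rep f T) (v : Fin n → ℂ) :
    (∃ i, eval v (pderiv i f) ≠ 0) ↔ ∃ w, T w v v ≠ 0 := by
  constructor
  · rintro ⟨i, hi⟩
    refine ⟨Pi.single i 1, ?_⟩
    rw [hT.pderiv_eq] at hi
    intro h
    apply hi
    rw [h, mul_zero]
  · rintro ⟨w, hw⟩
    by_contra hcon
    push Not at hcon
    apply hw
    have hw' : w = ∑ i, w i • (Pi.single i 1 : Fin n → ℂ) := by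
      ext j
      simp [Finset.sum_apply, Pi.single_apply]
    rw [hw', map_sum]
    simp only [LinearMap.sum_apply, map_smul, LinearMap.smul_apply, smul_eq_mul]
    apply Finset.sum_eq_zero
    intro i _
    have := hcon i
    rw [hT.pderiv_eq] at this
    have h3 : T (Pi.single i 1) v v = 0 := by
      have h3' : (3 : ℂ) ≠ 0 := by norm_num
      exact (mul_eq_zero.mp this).resolve_left h3'
    rw [h3, mul_zero]

end Rep

/-- polynomial identity vs pointwise identity for linear substitutions -/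
lemma aeval_linear_eq_iff (f : MvPolynomial (Fin n) ℂ) (A : Matrix (Fin n) (Fin n) ℂ) (c : ℂ) :
    aeval (fun i : Fin n => ∑ j : Fin n, C (A i j) * X j) f = C c * f ↔
      ∀ v : Fin n → ℂ, eval (A.mulVec v) f = c * eval v f := by
  have key : ∀ v : Fin n → ℂ,
      eval v (aeval (fun i : Fin n => ∑ j : Fin n, C (A i j) * X j) f) = eval (A.mulVec v) f := by
    intro v
    have h1 := aeval_bind₁ (R := ℂ) (S := ℂ) v (fun i : Fin n => ∑ j : Fin n, C (A i j) * X j) f
    have e1 : ∀ (w : Fin n → ℂ) (p : MvPolynomial (Fin n) ℂ), eval w p = aeval w p :=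
      fun w p => rfl
    rw [e1, e1]
    change aeval v (bind₁ _ f) = _
    rw [h1]
    congr 2
    funext i
    simp [Matrix.mulVec, dotProduct]
  constructor
  · intro h v
    rw [← key, h]
    simp
  · intro h
    apply MvPolynomial.funext
    intro v
    rw [key, h]
    simp

end Groth.Agent.H21.Cubic
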