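import Mathlib
import Groth.Agent.H21.Cubic.Basic
open MvPolynomial

namespace Groth.Agent.H21.Cubic

lemma cubic_coeffs_zero (c0 c1 c2 c3 : ℂ) (h : ∀ s : ℂ, c0 + c1 * s + c2 * s ^ 2 + c3 * s ^ 3 = 0) :
    c0 = 0 ∧ c1 = 0 ∧ c2 = 0 ∧ c3 = 0 := by
  have h0 := h 0
  have h1 := h 1
  have h2 := h (-1)
  have h3 := h 2
  norm_num at h0 h1 h2 h3
  refine ⟨h0, ?_, ?_, ?_⟩
  · linear_combination (-1/2 : ℂ) * h0 + h1 - (1/3 : ℂ) * h2 - (1/6 : ℂ) * h3
  · linear_combination (-1 : ℂ) * h0 + (1/2 : ℂ) * h1 + (1/2 : ℂ) * h2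
  · linear_combination (1/2 : ℂ) * h0 - (1/2 : ℂ) * h1 - (1/6 : ℂ) * h2 + (1/6 : ℂ) * h3

lemma quad_coeffs_zero (c0 c1 c2 : ℂ) (h : ∀ s : ℂ, c0 + c1 * s + c2 * s ^ 2 = 0) :
    c0 = 0 ∧ c1 = 0 ∧ c2 = 0 := by
  have := cubic_coeffs_zero c0 c1 c2 0 (fun s => by rw [zero_mul, add_zero]; exact h s)
  exact ⟨this.1, this.2.1, this.2.2.1⟩

variable {V : Type*} [AddCommGroup V] [Module ℂ V]

/-- a two-dimensional subspace containing a nonzero `e` is spanned by `e` and another vector -/
lemma exists_span_pair [FiniteDimensional ℂ V] (U : Submodule ℂ V) (hU : Module.finrank ℂ U = 2)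
    (e : V) (he : e ≠ 0) (heU : e ∈ U) :
    ∃ u ∈ U, u ∉ Submodule.span ℂ {e} ∧ U = Submodule.span ℂ {e, u} := by
  have hlt : Submodule.span ℂ {e} < U := by
    refine lt_of_le_of_ne ((Submodule.span_singleton_le_iff_mem _ _).mpr heU) ?_
    intro h
    have := finrank_span_singleton (K := ℂ) he
    rw [h, hU] at this
    omega
  obtain ⟨u, huU, hu⟩ := SetLike.exists_of_lt hlt
  refine ⟨u, huU, hu, ?_⟩
  symm
  apply Submodule.eq_of_le_of_finrank_eq
  · rw [Submodule.span_le]
    rintro x (rfl | rfl)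
    · exact heU
    · exact huU
  · rw [hU]
    have hli : LinearIndependent ℂ ![e, u] := by
      rw [LinearIndependent.pair_iff' he]
      intro a ha
      apply hu
      rw [← ha]
      exact Submodule.smul_mem _ _ (Submodule.mem_span_singleton_self e)
    have := finrank_span_eq_card hli
    simp only [Fintype.card_fin] at this
    have hr : Set.range ![e, u] = {e, u} := by
      ext x
      simp only [Matrix.range_cons, Matrix.range_empty, Set.union_empty, Set.mem_union,
        Set.mem_singleton_iff, Set.mem_insert_iff]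
    rw [hr] at this
    exact this

lemma linearIndependent_triple {e u w : V} (he : e ≠ 0) (hu : u ∉ Submodule.span ℂ {e})
    (hw : w ∉ Submodule.span ℂ {e, u}) : LinearIndependent ℂ ![w, e, u] := by
  have hli : LinearIndependent ℂ ![e, u] := by
    rw [LinearIndependent.pair_iff' he]
    intro a ha
    apply hu
    rw [← ha]
    exact Submodule.smul_mem _ _ (Submodule.mem_span_singleton_self e)
  have hr : Set.range ![e, u] = {e, u} := by
    ext x
    simp only [Matrix.range_cons, Matrix.range_empty, Set.union_empty, Set.mem_union,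
      Set.mem_singleton_iff, Set.mem_insert_iff]
  have : (![w, e, u] : Fin 3 → V) = Fin.cons w ![e, u] := by
    ext i; fin_cases i <;> rfl
  rw [this, linearIndependent_finCons, hr]
  exact ⟨hli, hw⟩

lemma finrank_span_triple {e u w : V} (he : e ≠ 0) (hu : u ∉ Submodule.span ℂ {e})
    (hw : w ∉ Submodule.span ℂ {e, u}) : Module.finrank ℂ (Submodule.span ℂ {e, u, w}) = 3 := by
  have hli := linearIndependent_triple he hu hw
  have := finrank_span_eq_card hli
  simp only [Fintype.card_fin] at this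
  have hr : Set.range ![w, e, u] = {e, u, w} := by
    ext x
    simp only [Matrix.range_cons, Matrix.range_empty, Set.union_empty, Set.mem_union,
      Set.mem_singleton_iff, Set.mem_insert_iff]
    tauto
  rw [hr] at this
  exact this

lemma finrank_ker_of_ne_zero [FiniteDimensional ℂ V] (l : V →ₗ[ℂ] ℂ) (hl : l ≠ 0) :
    Module.finrank ℂ (LinearMap.ker l) + 1 = Module.finrank ℂ V := by
  have h1 := LinearMap.finrank_range_add_finrank_ker l
  have h2 : LinearMap.range l = ⊤ := by
    rw [LinearMap.range_eq_top]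
    exact LinearMap.surjective_of_ne_zero hl
  rw [h2, finrank_top, Module.finrank_self] at h1
  omega

lemma ker_eq_span_triple [FiniteDimensional ℂ V] (hV : Module.finrank ℂ V = 4)
    (l : V →ₗ[ℂ] ℂ) (hl : l ≠ 0) {e u w : V} (he : e ≠ 0) (hu : u ∉ Submodule.span ℂ {e})
    (hw : w ∉ Submodule.span ℂ {e, u}) (hle : l e = 0) (hlu : l u = 0) (hlw : l w = 0) :
    LinearMap.ker l = Submodule.span ℂ {e, u, w} := by
  symm
  apply Submodule.eq_of_le_of_finrank_eq
  · rw [Submodule.span_le]
    rintro x (rfl | rfl | rfl)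
    · exact hle
    · exact hlu
    · exact hlw
  · rw [finrank_span_triple he hu hw]
    have := finrank_ker_of_ne_zero l hl
    omega

end Groth.Agent.H21.Cubic
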