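import Mathlib
import Groth.Prelude.Def_W4c5monodromycubicsHesse
import Groth.Agent.H21.Cubic.LinAlg
open MvPolynomial

namespace Groth.Agent.H21.Cubic

lemma hesse_flex_core (k x y z a b c : ℂ) (hk : k ^ 3 ≠ 1)
    (H0 : x ^ 3 + y ^ 3 + z ^ 3 - 3 * k * (x * y * z) = 0)
    (C1 : (x ^ 2 - k * y * z) * a + (y ^ 2 - k * x * z) * b + (z ^ 2 - k * x * y) * c = 0)
    (C2 : x * a ^ 2 + y * b ^ 2 + z * c ^ 2 - k * (x * b * c + y * a * c + z * a * b) = 0)
    (hn : y * c - z * b ≠ 0) : x * y * z = 0 := by
  have key : (y * c - z * b) ^ 2 * (8 * (1 - k ^ 3) * (x * y * z)) = 0 := by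
    linear_combination
      (2 * ((2 * (x * a ^ 2 + y * b ^ 2 + z * c ^ 2 - k * (x * b * c + y * a * c + z * a * b)))
          * (2 * x) - (2 * x * a - k * z * b - k * y * c) ^ 2)
        + 2 * k ^ 2 * (y * c - z * b) ^ 2) * H0
      + 2 * (2 * (2 * (x ^ 2 - k * y * z)) * (2 * x * a - k * z * b - k * y * c)
          - (2 * ((x ^ 2 - k * y * z) * a + (y ^ 2 - k * x * z) * b + (z ^ 2 - k * x * y) * c))
            * (2 * x)) * C1
      - 2 * (2 * (x ^ 2 - k * y * z)) ^ 2 * C2
  have h1 : (1 - k ^ 3) ≠ 0 := fun h => hk (by linear_combination -h)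
  have h8 : (8 : ℂ) ≠ 0 := by norm_num
  rcases mul_eq_zero.mp key with h | h
  · exact absurd ((pow_eq_zero_iff two_ne_zero).mp h) hn
  · exact (mul_eq_zero.mp h).resolve_left (mul_ne_zero h8 h1)

lemma hesse_eval (k : ℂ) (u : Fin 3 → ℂ) : eval u (HesseCubic.form k) =
    u 0 ^ 3 + u 1 ^ 3 + u 2 ^ 3 - 3 * k * (u 0 * u 1 * u 2) := by
  simp [HesseCubic.form]

theorem hesse_flex_iff (k : ℂ) (hk : k ^ 3 ≠ 1) (v : Fin 3 → ℂ) (hv : v ≠ 0)
    (hCv : eval v (HesseCubic.form k) = 0) :
    (∃ w : Fin 3 → ℂ, LinearIndependent ℂ ![v, w] ∧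
        ∀ t : ℂ, eval (v + t • w) (HesseCubic.form k) = t ^ 3 * eval w (HesseCubic.form k)) ↔
      ∃ γ c : ℂ, γ ^ 3 = 1 ∧ (v = c • ![0, 1, -γ] ∨ v = c • ![-γ, 0, 1] ∨ v = c • ![1, -γ, 0]) := by
  rw [hesse_eval] at hCv
  constructor
  · rintro ⟨w, hli, hflex⟩
    have hn := crossProduct_ne_zero_iff_linearIndependent.mpr hli
    have hexp : ∀ t : ℂ, (v 0 ^ 3 + v 1 ^ 3 + v 2 ^ 3 - 3 * k * (v 0 * v 1 * v 2)) +
        (3 * ((v 0 ^ 2 - k * v 1 * v 2) * w 0 + (v 1 ^ 2 - k * v 0 * v 2) * w 1
          + (v 2 ^ 2 - k * v 0 * v 1) * w 2)) * t +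
        (3 * (v 0 * w 0 ^ 2 + v 1 * w 1 ^ 2 + v 2 * w 2 ^ 2
          - k * (v 0 * w 1 * w 2 + v 1 * w 0 * w 2 + v 2 * w 0 * w 1))) * t ^ 2 + 0 * t ^ 3 = 0 := by
      intro t
      have := hflex t
      rw [hesse_eval, hesse_eval] at this
      simp only [Pi.add_apply, Pi.smul_apply, smul_eq_mul] at this
      linear_combination this
    obtain ⟨h0, h1, h2, -⟩ := cubic_coeffs_zero _ _ _ _ hexp
    have h3 : (3 : ℂ) ≠ 0 := by norm_num
    have h1' := (mul_eq_zero.mp h1).resolve_left h3
    have h2' := (mul_eq_zero.mp h2).resolve_left h3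
    have hxyz : v 0 * v 1 * v 2 = 0 := by
      by_contra hne
      apply hn
      rw [cross_apply]
      have e0 : v 1 * w 2 - v 2 * w 1 = 0 := by
        by_contra h
        exact hne (hesse_flex_core k _ _ _ _ _ _ hk h0 h1' h2' h)
      have e1 : v 2 * w 0 - v 0 * w 2 = 0 := by
        by_contra h
        apply hne
        have := hesse_flex_core k (v 1) (v 2) (v 0) (w 1) (w 2) (w 0) hk (by linear_combination h0)
          (by linear_combination h1') (by linear_combination h2') h
        linear_combination this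
      have e2 : v 0 * w 1 - v 1 * w 0 = 0 := by
        by_contra h
        apply hne
        have := hesse_flex_core k (v 2) (v 0) (v 1) (w 2) (w 0) (w 1) hk (by linear_combination h0)
          (by linear_combination h1') (by linear_combination h2') h
        linear_combination this
      rw [e0, e1, e2]
      simp
    have hv3 : ∀ u : Fin 3 → ℂ, v = u ↔ v 0 = u 0 ∧ v 1 = u 1 ∧ v 2 = u 2 := by
      intro u
      constructor
      · rintro rfl; exact ⟨rfl, rfl, rfl⟩
      · rintro ⟨a, b, c⟩
        ext i; fin_cases i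
        · exact a
        · exact b
        · exact c
    have hcube : ∀ a b : ℂ, a ^ 3 + b ^ 3 = 0 → a ≠ 0 → (-b / a) ^ 3 = 1 := by
      intro a b hab ha
      field_simp
      linear_combination -hab
    rcases mul_eq_zero.mp hxyz with h | hz
    · rcases mul_eq_zero.mp h with hx | hy
      · -- x = 0
        rw [hx] at h0
        have hy : v 1 ≠ 0 := by
          intro hy
          rw [hy] at h0
          have hz : v 2 = 0 := by
            have : v 2 ^ 3 = 0 := by linear_combination h0
            exact (pow_eq_zero_iff (by norm_num)).mp this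
          exact hv ((hv3 0).mpr ⟨hx, hy, hz⟩)
        refine ⟨-v 2 / v 1, v 1, hcube (v 1) (v 2) (by linear_combination h0) hy, Or.inl ?_⟩
        rw [hv3]
        refine ⟨by simp [hx], by simp, ?_⟩
        simp only [Pi.smul_apply, smul_eq_mul]
        simp
        field_simp
      · -- y = 0
        rw [hy] at h0
        have hz : v 2 ≠ 0 := by
          intro hz
          rw [hz] at h0
          have hx : v 0 = 0 := by
            have : v 0 ^ 3 = 0 := by linear_combination h0
            exact (pow_eq_zero_iff (by norm_num)).mp this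
          exact hv ((hv3 0).mpr ⟨hx, hy, hz⟩)
        refine ⟨-v 0 / v 2, v 2, hcube (v 2) (v 0) (by linear_combination h0) hz, Or.inr (Or.inl ?_)⟩
        rw [hv3]
        refine ⟨?_, by simp [hy], by simp⟩
        simp only [Pi.smul_apply, smul_eq_mul]
        simp
        field_simp
    · -- z = 0
      rw [hz] at h0
      have hx : v 0 ≠ 0 := by
        intro hx
        rw [hx] at h0
        have hy : v 1 = 0 := by
          have : v 1 ^ 3 = 0 := by linear_combination h0
          exact (pow_eq_zero_iff (by norm_num)).mp this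
        exact hv ((hv3 0).mpr ⟨hx, hy, hz⟩)
      refine ⟨-v 1 / v 0, v 0, hcube (v 0) (v 1) (by linear_combination h0) hx, Or.inr (Or.inr ?_)⟩
      rw [hv3]
      refine ⟨by simp, ?_, by simp [hz]⟩
      simp only [Pi.smul_apply, smul_eq_mul]
      simp
      field_simp
  · rintro ⟨γ, c, hγ, h⟩
    have hc : c ≠ 0 := by
      rintro rfl
      apply hv
      rcases h with h | h | h <;> rw [h, zero_smul]
    rcases h with h | h | h
    · refine ⟨![1, -k * γ, 0], ?_, ?_⟩
      · rw [LinearIndependent.pair_iff]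
        intro s t hst
        have e0 := congrFun hst 0
        have e1 := congrFun hst 1
        rw [h] at e0 e1
        simp at e0 e1
        subst e0
        simp at e1
        exact ⟨e1.resolve_right hc, rfl⟩
      · intro t
        rw [hesse_eval, hesse_eval, h]
        simp
        linear_combination (-c ^ 3) * hγ
    · refine ⟨![0, 1, -k * γ], ?_, ?_⟩
      · rw [LinearIndependent.pair_iff]
        intro s t hst
        have e0 := congrFun hst 1
        have e1 := congrFun hst 2
        rw [h] at e0 e1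
        simp at e0 e1
        subst e0
        simp at e1
        exact ⟨e1.resolve_right hc, rfl⟩
      · intro t
        rw [hesse_eval, hesse_eval, h]
        simp
        linear_combination (-c ^ 3) * hγ
    · refine ⟨![-k * γ, 0, 1], ?_, ?_⟩
      · rw [LinearIndependent.pair_iff]
        intro s t hst
        have e0 := congrFun hst 2
        have e1 := congrFun hst 0
        rw [h] at e0 e1
        simp at e0 e1
        subst e0
        simp at e1
        exact ⟨e1.resolve_right hc, rfl⟩
      · intro t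
        rw [hesse_eval, hesse_eval, h]
        simp
        linear_combination (-c ^ 3) * hγ

end Groth.Agent.H21.Cubic
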