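import Mathlib
import Groth.Agent.H21.Cubic.Basic
open Polynomial

namespace Groth.Agent.H21.Cubic

abbrev V3 := Fin 3 → ℂ

variable {f g : MvPolynomial (Fin 3) ℂ} {T T' : V3 →ₗ[ℂ] V3 →ₗ[ℂ] V3 →ₗ[ℂ] ℂ}

/-- restriction of the cubic form to the affine line `p + z v0`, as a polynomial in `z` -/
noncomputable def lineP (T : V3 →ₗ[ℂ] V3 →ₗ[ℂ] V3 →ₗ[ℂ] ℂ) (p v0 : V3) : ℂ[X] :=
  _root_.Cubic.toPoly ⟨T v0 v0 v0, 3 * T p v0 v0, 3 * T p p v0, T p p p⟩

lemma eval_lineP (hT : Rep f T) (p v0 : V3) (z : ℂ) :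
    (lineP T p v0).eval z = T (p + z • v0) (p + z • v0) (p + z • v0) := by
  rw [hT.cube_add_smul]
  simp [lineP, _root_.Cubic.toPoly]
  ring

lemma natDegree_lineP (p v0 : V3) (h : T v0 v0 v0 ≠ 0) : (lineP T p v0).natDegree = 3 :=
  _root_.Cubic.natDegree_of_a_ne_zero' h

lemma coeff_lineP_three (p v0 : V3) : (lineP T p v0).coeff 3 = T v0 v0 v0 :=
  _root_.Cubic.coeff_eq_a

lemma lineP_smul (p v0 : V3) (h : T v0 v0 v0 ≠ 0) (t : ℂ) :
    lineP T (t • p) v0 = (lineP T p v0).scaleRoots t := by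
  ext i
  rw [coeff_scaleRoots, natDegree_lineP p v0 h]
  rcases Nat.lt_or_ge 3 i with hi | hi
  · rw [lineP, lineP, _root_.Cubic.coeff_eq_zero hi, _root_.Cubic.coeff_eq_zero hi, zero_mul]
  · interval_cases i
    · rw [lineP, lineP, _root_.Cubic.coeff_eq_d, _root_.Cubic.coeff_eq_d]
      simp only [map_smul, LinearMap.smul_apply, smul_eq_mul]
      ring
    · rw [lineP, lineP, _root_.Cubic.coeff_eq_c, _root_.Cubic.coeff_eq_c]
      simp only [map_smul, LinearMap.smul_apply, smul_eq_mul]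
      ring
    · rw [lineP, lineP, _root_.Cubic.coeff_eq_b, _root_.Cubic.coeff_eq_b]
      simp only [map_smul, LinearMap.smul_apply, smul_eq_mul]
      ring
    · rw [lineP, lineP, _root_.Cubic.coeff_eq_a, _root_.Cubic.coeff_eq_a]
      simp

/-- the same with polynomial coefficients: restriction to `a + s b + z v0` -/
noncomputable def lineP2 (T : V3 →ₗ[ℂ] V3 →ₗ[ℂ] V3 →ₗ[ℂ] ℂ) (a b v0 : V3) : ℂ[X][X] :=
  _root_.Cubic.toPoly ⟨C (T v0 v0 v0), C (3 * T a v0 v0) + C (3 * T b v0 v0) * X,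
    C (3 * T a a v0) + C (6 * T a b v0) * X + C (3 * T b b v0) * X ^ 2,
    C (T a a a) + C (3 * T a a b) * X + C (3 * T a b b) * X ^ 2 + C (T b b b) * X ^ 3⟩

lemma map_lineP2 (hT : Rep f T) (a b v0 : V3) (s : ℂ) :
    (lineP2 T a b v0).map (evalRingHom s) = lineP T (a + s • b) v0 := by
  have h1 : T (a + s • b) (a + s • b) (a + s • b) =
      T a a a + 3 * s * T a a b + 3 * s ^ 2 * T a b b + s ^ 3 * T b b b := hT.cube_add_smul a b s
  have h2 : T (a + s • b) (a + s • b) v0 =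
      T a a v0 + 2 * s * T a b v0 + s ^ 2 * T b b v0 := by
    simp only [map_add, map_smul, LinearMap.add_apply, LinearMap.smul_apply, smul_eq_mul]
    rw [hT.symm12 b a v0]
    ring
  have h3 : T (a + s • b) v0 v0 = T a v0 v0 + s * T b v0 v0 := by
    simp only [map_add, map_smul, LinearMap.add_apply, LinearMap.smul_apply, smul_eq_mul]
  rw [lineP, h1, h2, h3]
  simp only [lineP2, _root_.Cubic.toPoly, Polynomial.map_add, Polynomial.map_mul,
    Polynomial.map_pow, Polynomial.map_X, Polynomial.map_C, coe_evalRingHom, eval_add, eval_mul,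
    eval_C, eval_X, eval_pow]
  simp only [map_add, map_mul, map_pow, map_ofNat]
  ring

end Groth.Agent.H21.Cubic

namespace Groth.Agent.H21.Cubic
open Polynomial

variable {f g : MvPolynomial (Fin 3) ℂ} {T T' : V3 →ₗ[ℂ] V3 →ₗ[ℂ] V3 →ₗ[ℂ] ℂ}

/-- the resultant along the line through `p` in direction `v0` -/
noncomputable def resP (T T' : V3 →ₗ[ℂ] V3 →ₗ[ℂ] V3 →ₗ[ℂ] ℂ) (p v0 : V3) : ℂ :=
  resultant (lineP T p v0) (lineP T' p v0) 3 3

lemma resP_smul {v0 : V3} (h : T v0 v0 v0 ≠ 0) (h' : T' v0 v0 v0 ≠ 0) (t : ℂ) (p : V3) :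
    resP T T' (t • p) v0 = t ^ 9 * resP T T' p v0 := by
  unfold resP
  rw [lineP_smul p v0 h, lineP_smul p v0 h']
  have := resultant_scaleRoots (lineP T p v0) (lineP T' p v0) t
  rw [natDegree_scaleRoots, natDegree_scaleRoots, natDegree_lineP p v0 h,
    natDegree_lineP p v0 h'] at this
  exact this

lemma common_root_of_resP {v0 : V3} (hT : Rep f T) (hT' : Rep g T') (h : T v0 v0 v0 ≠ 0)
    (h' : T' v0 v0 v0 ≠ 0) (p : V3) (hr : resP T T' p v0 = 0) :
    ∃ z : ℂ, T (p + z • v0) (p + z • v0) (p + z • v0) = 0 ∧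
      T' (p + z • v0) (p + z • v0) (p + z • v0) = 0 := by
  unfold resP at hr
  have hr' : resultant (lineP T p v0) (lineP T' p v0) = 0 := by
    rw [natDegree_lineP p v0 h, natDegree_lineP p v0 h']
    exact hr
  rw [resultant_eq_zero_iff] at hr'
  obtain ⟨-, hnc⟩ := hr'
  rw [Polynomial.isCoprime_iff_aeval_ne_zero_of_isAlgClosed (k := ℂ) ℂ] at hnc
  push Not at hnc
  obtain ⟨z, hz, hz'⟩ := hnc
  refine ⟨z, ?_, ?_⟩
  · rw [← eval_lineP hT]; simpa using hz
  · rw [← eval_lineP hT']; simpa using hz'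

/-- the resultant as a polynomial in the parameter `s`, along `a + s b` -/
noncomputable def resP2 (T T' : V3 →ₗ[ℂ] V3 →ₗ[ℂ] V3 →ₗ[ℂ] ℂ) (a b v0 : V3) : ℂ[X] :=
  resultant (lineP2 T a b v0) (lineP2 T' a b v0) 3 3

lemma eval_resP2 (hT : Rep f T) (hT' : Rep g T') (a b v0 : V3) (s : ℂ) :
    (resP2 T T' a b v0).eval s = resP T T' (a + s • b) v0 := by
  unfold resP2 resP
  rw [← map_lineP2 hT, ← map_lineP2 hT', resultant_map_map]
  rfl

theorem bezout_core (hT : Rep f T) (hT' : Rep g T') (v0 e1 e2 : V3) (h : T v0 v0 v0 ≠ 0)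
    (h' : T' v0 v0 v0 ≠ 0)
    (hind : ∀ a b c : ℂ, a • e1 + b • e2 + c • v0 = 0 → a = 0 ∧ b = 0 ∧ c = 0) :
    ∃ v : V3, v ≠ 0 ∧ T v v v = 0 ∧ T' v v v = 0 := by
  by_cases hroot : ∃ s, (resP2 T T' e1 e2 v0).eval s = 0
  · obtain ⟨s, hs⟩ := hroot
    rw [eval_resP2 hT hT'] at hs
    obtain ⟨z, hz, hz'⟩ := common_root_of_resP hT hT' h h' _ hs
    refine ⟨e1 + s • e2 + z • v0, ?_, hz, hz'⟩
    intro h0
    have := hind 1 s z (by rw [one_smul]; exact h0)
    exact one_ne_zero this.1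
  · push Not at hroot
    have hdeg : (resP2 T T' e1 e2 v0).degree = 0 := by
      by_contra hd
      obtain ⟨s, hs⟩ := IsAlgClosed.exists_root _ hd
      exact hroot s hs
    obtain ⟨c, hc⟩ : ∃ c, resP2 T T' e1 e2 v0 = C c := ⟨_, eq_C_of_degree_eq_zero hdeg⟩
    have key : ∀ x : ℂ, x ≠ 0 → (resP2 T T' e2 e1 v0).eval x = (C c * X ^ 9 : ℂ[X]).eval x := by
      intro x hx
      rw [eval_resP2 hT hT']
      have e : e2 + x • e1 = x • (e1 + x⁻¹ • e2) := by
        rw [smul_add, smul_smul, mul_inv_cancel₀ hx, one_smul, add_comm]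
      rw [e, resP_smul h h', ← eval_resP2 hT hT', hc]
      simp
      ring
    have heq : resP2 T T' e2 e1 v0 = C c * X ^ 9 := by
      apply Polynomial.eq_of_infinite_eval_eq
      apply Set.Infinite.mono (s := ({0} : Set ℂ)ᶜ)
      · intro x hx
        exact key x hx
      · exact (Set.finite_singleton 0).infinite_compl
    have h0 : (resP2 T T' e2 e1 v0).eval 0 = 0 := by
      rw [heq]; simp
    rw [eval_resP2 hT hT', zero_smul, add_zero] at h0
    obtain ⟨z, hz, hz'⟩ := common_root_of_resP hT hT' h h' _ h0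
    refine ⟨e2 + z • v0, ?_, hz, hz'⟩
    intro h0
    have := hind 0 1 z (by rw [zero_smul, zero_add, one_smul]; exact h0)
    exact one_ne_zero this.2.1

end Groth.Agent.H21.Cubic
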