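import Mathlib
import Groth.Agent.H21.Cubic.Bezout
import Groth.Agent.H21.Cubic.LinAlg
open MvPolynomial

namespace Groth.Agent.H21.Cubic

variable {f g : MvPolynomial (Fin 3) ℂ} {T T' : V3 →ₗ[ℂ] V3 →ₗ[ℂ] V3 →ₗ[ℂ] ℂ}

lemma exists_not_mem_of_finrank_lt (K : Submodule ℂ V3) (h : Module.finrank ℂ K < 3) :
    ∃ x, x ∉ K := by
  by_contra hcon
  push Not at hcon
  have : K = ⊤ := by
    rw [eq_top_iff]; intro x _; exact hcon x
  rw [this, finrank_top] at h
  simp [V3] at h

lemma exists_basis_completion (v0 : V3) (hv0 : v0 ≠ 0) :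
    ∃ e1 e2 : V3, ∀ a b c : ℂ, a • e1 + b • e2 + c • v0 = 0 → a = 0 ∧ b = 0 ∧ c = 0 := by
  obtain ⟨e1, he1⟩ := exists_not_mem_of_finrank_lt (Submodule.span ℂ {v0}) (by
    rw [finrank_span_singleton hv0]; norm_num)
  obtain ⟨e2, he2⟩ := exists_not_mem_of_finrank_lt (Submodule.span ℂ {v0, e1}) (by
    have hli : LinearIndependent ℂ ![v0, e1] := by
      rw [LinearIndependent.pair_iff' hv0]
      intro a ha
      apply he1
      rw [← ha]
      exact Submodule.smul_mem _ _ (Submodule.mem_span_singleton_self v0)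
    have := finrank_span_eq_card hli
    simp only [Fintype.card_fin] at this
    have hr : Set.range ![v0, e1] = {v0, e1} := by
      ext x
      simp only [Matrix.range_cons, Matrix.range_empty, Set.union_empty, Set.mem_union,
        Set.mem_singleton_iff, Set.mem_insert_iff]
    rw [hr] at this
    rw [this]; norm_num)
  refine ⟨e1, e2, ?_⟩
  have hli := linearIndependent_triple hv0 he1 he2
  rw [Fintype.linearIndependent_iff] at hli
  intro a b c habc
  have := hli ![b, c, a] (by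
    rw [Fin.sum_univ_three]
    simp only [Matrix.cons_val_zero, Matrix.cons_val_one, Matrix.cons_val_two]
    rw [← habc]; simp; abel)
  exact ⟨this 2, this 0, this 1⟩

theorem weak_bezout (hf : f.IsHomogeneous 3) (hg : g.IsHomogeneous 3) (hf0 : f ≠ 0) :
    ∃ v : V3, v ≠ 0 ∧ eval v f = 0 ∧ eval v g = 0 := by
  obtain ⟨T, hT⟩ := exists_rep f hf
  obtain ⟨v0, hv0⟩ : ∃ v0, eval v0 f ≠ 0 := by
    by_contra hcon
    push Not at hcon
    apply hf0
    apply MvPolynomial.funext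
    intro v
    rw [hcon v, map_zero]
  have hv00 : v0 ≠ 0 := by
    rintro rfl
    apply hv0
    rw [hT.eval_eq]; simp
  obtain ⟨lam, hlam⟩ : ∃ lam : ℂ, eval v0 (g + lam • f) ≠ 0 := by
    by_cases h : eval v0 g = 0
    · refine ⟨1, ?_⟩
      rw [one_smul, map_add, h, zero_add]; exact hv0
    · refine ⟨0, ?_⟩
      rw [zero_smul, add_zero]; exact h
  have hg' : (g + lam • f).IsHomogeneous 3 :=
    (homogeneousSubmodule (Fin 3) ℂ 3).add_mem hg ((homogeneousSubmodule (Fin 3) ℂ 3).smul_mem lam hf)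
  obtain ⟨T', hT'⟩ := exists_rep _ hg'
  obtain ⟨e1, e2, hind⟩ := exists_basis_completion v0 hv00
  obtain ⟨v, hv, h1, h2⟩ := bezout_core hT hT' v0 e1 e2 (by rw [← hT.eval_eq]; exact hv0)
    (by rw [← hT'.eval_eq]; exact hlam) hind
  refine ⟨v, hv, ?_, ?_⟩
  · rw [hT.eval_eq]; exact h1
  · rw [← hT'.eval_eq, map_add, smul_eval, hT.eval_eq, h1, mul_zero, add_zero] at h2
    exact h2

end Groth.Agent.H21.Cubic

namespace Groth.Agent.H21.Cubic
open MvPolynomial

variable {f : MvPolynomial (Fin 3) ℂ} {T : V3 →ₗ[ℂ] V3 →ₗ[ℂ] V3 →ₗ[ℂ] ℂ}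

/-- linear form `v ↦ T v e_i e_j` as a polynomial -/
noncomputable def hessEntry (T : V3 →ₗ[ℂ] V3 →ₗ[ℂ] V3 →ₗ[ℂ] ℂ) (i j : Fin 3) :
    MvPolynomial (Fin 3) ℂ :=
  ∑ k : Fin 3, C (T (Pi.single k 1) (Pi.single i 1) (Pi.single j 1)) * X k

lemma eval_hessEntry (v : V3) (i j : Fin 3) :
    eval v (hessEntry T i j) = T v (Pi.single i 1) (Pi.single j 1) := by
  have hv : v = ∑ k, v k • (Pi.single k 1 : V3) := by
    ext j
    simp [Finset.sum_apply, Pi.single_apply]
  conv_rhs => rw [hv]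
  simp only [hessEntry, map_sum, map_mul, eval_C, eval_X, LinearMap.sum_apply, map_smul,
    LinearMap.smul_apply, smul_eq_mul]
  apply Finset.sum_congr rfl
  intro k _
  ring

lemma hessEntry_isHomogeneous (i j : Fin 3) : (hessEntry T i j).IsHomogeneous 1 := by
  apply IsHomogeneous.sum
  intro k _
  exact isHomogeneous_C_mul_X _ _

/-- the polynomial `v ↦ det (T v e_i e_j)` -/
noncomputable def hessPoly (T : V3 →ₗ[ℂ] V3 →ₗ[ℂ] V3 →ₗ[ℂ] ℂ) : MvPolynomial (Fin 3) ℂ :=
  Matrix.det (Matrix.of fun i j : Fin 3 => hessEntry T i j)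

lemma eval_hessPoly (v : V3) :
    eval v (hessPoly T) =
      Matrix.det (Matrix.of fun i j : Fin 3 => T v (Pi.single i 1) (Pi.single j 1)) := by
  unfold hessPoly
  rw [RingHom.map_det]
  congr 1
  ext i j
  simp [eval_hessEntry]

lemma hessPoly_isHomogeneous : (hessPoly T).IsHomogeneous 3 := by
  unfold hessPoly
  rw [Matrix.det_fin_three]
  simp only [Matrix.of_apply]
  have h := fun i j => hessEntry_isHomogeneous (T := T) i j
  have h3 : ∀ a b c d e k : Fin 3,
      (hessEntry T a b * hessEntry T c d * hessEntry T e k).IsHomogeneous 3 :=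
    fun a b c d e k => ((h a b).mul (h c d)).mul (h e k)
  exact (((((h3 _ _ _ _ _ _).sub (h3 _ _ _ _ _ _)).sub (h3 _ _ _ _ _ _)).add
    (h3 _ _ _ _ _ _)).add (h3 _ _ _ _ _ _)).sub (h3 _ _ _ _ _ _)

end Groth.Agent.H21.Cubic

namespace Groth.Agent.H21.Cubic
open MvPolynomial

variable {f : MvPolynomial (Fin 3) ℂ} {T : V3 →ₗ[ℂ] V3 →ₗ[ℂ] V3 →ₗ[ℂ] ℂ}

/-- smoothness of a plane cubic, as in the statements -/
def Smooth3 (f : MvPolynomial (Fin 3) ℂ) : Prop :=
  ∀ v : Fin 3 → ℂ, v ≠ 0 → eval v f = 0 → ∃ i : Fin 3, eval v (pderiv i f) ≠ 0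

lemma Rep.tangent_ne_zero3 (hT : Rep f T) (hsm : Smooth3 f) {v : V3} (hv : v ≠ 0)
    (hF : T v v v = 0) : T v v ≠ 0 := by
  obtain ⟨w, hw⟩ := (hT.smooth_iff v).mp (hsm v hv (by rw [hT.eval_eq]; exact hF))
  intro h
  apply hw
  rw [hT.wuu v w, h]
  rfl

/-- a smooth plane cubic has a flex; `w` spans the kernel of the Hessian form at `v` -/
theorem exists_flex (hT : Rep f T) (hf : f.IsHomogeneous 3) (hf0 : f ≠ 0) (hsm : Smooth3 f) :
    ∃ v w : V3, v ≠ 0 ∧ T v v v = 0 ∧ (∀ x, T v w x = 0) ∧ w ∉ Submodule.span ℂ {v} := by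
  obtain ⟨v, hv, h1, h2⟩ := weak_bezout hf (hessPoly_isHomogeneous (T := T)) hf0
  rw [eval_hessPoly] at h2
  obtain ⟨w, hw, hMw⟩ := Matrix.exists_mulVec_eq_zero_iff.mpr h2
  have hFv : T v v v = 0 := by rw [← hT.eval_eq]; exact h1
  have hw' : w = ∑ k, w k • (Pi.single k 1 : V3) := by
    ext j
    simp [Finset.sum_apply, Pi.single_apply]
  have hrow : ∀ i : Fin 3, T v (Pi.single i 1) w = 0 := by
    intro i
    have hi := congrFun hMw i
    simp only [Matrix.mulVec, dotProduct, Matrix.of_apply, Pi.zero_apply] at hi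
    conv_lhs => rw [hw']
    rw [map_sum]
    simp only [map_smul, smul_eq_mul]
    rw [← hi]
    apply Finset.sum_congr rfl
    intro j _
    ring
  have key : ∀ x, T v w x = 0 := by
    intro x
    have hx : x = ∑ k, x k • (Pi.single k 1 : V3) := by
      ext j
      simp [Finset.sum_apply, Pi.single_apply]
    rw [hT.symm23 v w x, hx, map_sum, LinearMap.sum_apply]
    apply Finset.sum_eq_zero
    intro i _
    rw [map_smul, LinearMap.smul_apply, hrow i, smul_zero]
  refine ⟨v, w, hv, hFv, key, ?_⟩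
  intro hmem
  rw [Submodule.mem_span_singleton] at hmem
  obtain ⟨c, rfl⟩ := hmem
  have hc : c ≠ 0 := by
    rintro rfl
    exact hw (zero_smul _ _)
  apply hT.tangent_ne_zero3 hsm hv hFv
  apply LinearMap.ext
  intro x
  have := key x
  rw [map_smul, LinearMap.smul_apply, smul_eq_mul] at this
  exact (mul_eq_zero.mp this).resolve_left hc

end Groth.Agent.H21.Cubic
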