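import Mathlib
import Groth.Agent.H21.Cubic.Flex
open MvPolynomial

namespace Groth.Agent.H21.Cubic

variable {f : MvPolynomial (Fin 3) ℂ} {T : V3 →ₗ[ℂ] V3 →ₗ[ℂ] V3 →ₗ[ℂ] ℂ}

/-- a triple `v, w, u` with `w ∉ span v`, `u ∉ span {v, w}` spans `ℂ³` -/
lemma spans_of_not_mem {v w u : V3} (hv : v ≠ 0) (hw : w ∉ Submodule.span ℂ {v})
    (hu : u ∉ Submodule.span ℂ {v, w}) (y : V3) : ∃ a b c : ℂ, a • v + b • w + c • u = y := by
  have h3 := finrank_span_triple hv hw hu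
  have htop : Submodule.span ℂ {v, w, u} = ⊤ := by
    apply Submodule.eq_top_of_finrank_eq
    rw [h3]; simp [V3]
  have : y ∈ Submodule.span ℂ {v, w, u} := by rw [htop]; trivial
  rw [Submodule.mem_span_triple] at this
  exact this

lemma indep_of_not_mem {v w u : V3} (hv : v ≠ 0) (hw : w ∉ Submodule.span ℂ {v})
    (hu : u ∉ Submodule.span ℂ {v, w}) (a b c : ℂ) (h : a • v + b • w + c • u = 0) :
    a = 0 ∧ b = 0 ∧ c = 0 := by
  have hli := linearIndependent_triple hv hw hu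
  rw [Fintype.linearIndependent_iff] at hli
  have := hli ![c, a, b] (by
    rw [Fin.sum_univ_three]
    simp only [Matrix.cons_val_zero, Matrix.cons_val_one, Matrix.cons_val_two]
    rw [← h]; simp; abel)
  exact ⟨this 1, this 2, this 0⟩

lemma Rep.cube_expand3 (hT : Rep f T) (w v u : V3) (X Y Z : ℂ) :
    T (X • w + Y • v + Z • u) (X • w + Y • v + Z • u) (X • w + Y • v + Z • u) =
      X ^ 3 * T w w w + 3 * X ^ 2 * Y * T w w v + 3 * X * Y ^ 2 * T w v v + Y ^ 3 * T v v v +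
      3 * Z * (X ^ 2 * T u w w + 2 * X * Y * T u w v + Y ^ 2 * T u v v) +
      3 * Z ^ 2 * (X * T w u u + Y * T v u u) + Z ^ 3 * T u u u := by
  rw [hT.cube_add_smul (X • w + Y • v) u Z, hT.cube_expand w v X Y,
    ← hT.wuu (X • w + Y • v) u, hT.sq_expand u w v X Y]
  simp only [map_add, map_smul, LinearMap.add_apply, LinearMap.smul_apply, smul_eq_mul]

end Groth.Agent.H21.Cubic

namespace Groth.Agent.H21.Cubic
open MvPolynomial

variable {f : MvPolynomial (Fin 3) ℂ} {T : V3 →ₗ[ℂ] V3 →ₗ[ℂ] V3 →ₗ[ℂ] ℂ}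

lemma finrank_span_pair3 {e u : V3} (he : e ≠ 0)
    (hu : u ∉ Submodule.span ℂ {e}) : Module.finrank ℂ (Submodule.span ℂ {e, u}) = 2 := by
  have hli : LinearIndependent ℂ ![e, u] := by
    rw [LinearIndependent.pair_iff' he]
    intro a ha
    apply hu
    rw [← ha]
    exact Submodule.smul_mem _ _ (Submodule.mem_span_singleton_self e)
  have := finrank_span_eq_card hli
  simp only [Fintype.card_fin] at this
  have hr : Set.range ![e, u] = {e, u} := by
    ext x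
    simp only [Matrix.range_cons, Matrix.range_empty, Set.union_empty, Set.mem_union,
      Set.mem_singleton_iff, Set.mem_insert_iff]
  rw [hr] at this
  exact this

/-- data of a flex with a complementary vector -/
structure FlexData (T : V3 →ₗ[ℂ] V3 →ₗ[ℂ] V3 →ₗ[ℂ] ℂ) (v w u0 : V3) : Prop where
  hv : v ≠ 0
  hw : w ∉ Submodule.span ℂ {v}
  hu0 : u0 ∉ Submodule.span ℂ {v, w}
  hFv : T v v v = 0
  hvw : ∀ x, T v w x = 0

namespace FlexData

variable {v w u0 : V3}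

lemma vvw (fd : FlexData T v w u0) (hT : Rep f T) : T v v w = 0 := by
  rw [hT.symm23 v v w]; exact fd.hvw v

lemma wvx (fd : FlexData T v w u0) (hT : Rep f T) (x : V3) : T w v x = 0 := by
  rw [hT.symm12 w v x]; exact fd.hvw x

lemma wwv (fd : FlexData T v w u0) (hT : Rep f T) : T w w v = 0 := by
  rw [hT.symm23 w w v]; exact fd.wvx hT w

lemma vvu0_ne (fd : FlexData T v w u0) (hT : Rep f T) (hsm : Smooth3 f) : T v v u0 ≠ 0 := by
  intro h
  apply hT.tangent_ne_zero3 hsm fd.hv fd.hFv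
  apply LinearMap.ext
  intro y
  obtain ⟨a, b, c, rfl⟩ := spans_of_not_mem fd.hv fd.hw fd.hu0 y
  simp only [map_add, map_smul, fd.hFv, fd.vvw hT, h, smul_zero, add_zero, LinearMap.zero_apply]

lemma www_ne (fd : FlexData T v w u0) (hT : Rep f T) (hsm : Smooth3 f) : T w w w ≠ 0 := by
  intro hα
  have ht := fd.vvu0_ne hT hsm
  obtain ⟨b, hb⟩ := IsAlgClosed.exists_pow_nat_eq (-(T w w u0) / T v v u0) (n := 2) (by norm_num)
  have hx0 : w + b • v ≠ 0 := by
    intro h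
    apply fd.hw
    have : w = (-b) • v := by
      rw [neg_smul]; exact eq_neg_of_add_eq_zero_left h
    rw [this]
    exact Submodule.smul_mem _ _ (Submodule.mem_span_singleton_self v)
  have hxy : ∀ y, T (w + b • v) (w + b • v) y = T w w y + 2 * b * T w v y + b ^ 2 * T v v y := by
    intro y
    simp only [map_add, map_smul, LinearMap.add_apply, LinearMap.smul_apply, smul_eq_mul]
    rw [hT.symm12 v w y]
    ring
  have hFx : T (w + b • v) (w + b • v) (w + b • v) = 0 := by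
    rw [hT.cube_add_smul, hα, fd.wwv hT, fd.wvx hT v, fd.hFv]; ring
  obtain ⟨x, hx⟩ : ∃ x, x = w + b • v := ⟨_, rfl⟩
  rw [← hx] at hx0 hFx hxy
  apply hT.tangent_ne_zero3 hsm hx0 hFx
  apply LinearMap.ext
  intro y
  obtain ⟨a', b', c', rfl⟩ := spans_of_not_mem fd.hv fd.hw fd.hu0 y
  simp only [map_add, map_smul, LinearMap.zero_apply, smul_eq_mul]
  rw [hxy v, hxy w, hxy u0, fd.wwv hT, fd.wvx hT v, fd.hFv, hα, fd.wvx hT w, fd.vvw hT,
    fd.wvx hT u0]
  have : T w w u0 + b ^ 2 * T v v u0 = 0 := by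
    rw [hb]; field_simp; ring
  linear_combination c' * this

end FlexData

end Groth.Agent.H21.Cubic

namespace Groth.Agent.H21.Cubic
open MvPolynomial

variable {f : MvPolynomial (Fin 3) ℂ} {T : V3 →ₗ[ℂ] V3 →ₗ[ℂ] V3 →ₗ[ℂ] ℂ}

/-- Weierstrass form with respect to the basis `(w, v, u)` -/
def IsWeier (T : V3 →ₗ[ℂ] V3 →ₗ[ℂ] V3 →ₗ[ℂ] ℂ) (w v u : V3) (a b : ℂ) : Prop :=
  (∀ x y z : ℂ, x • w + y • v + z • u = 0 → x = 0 ∧ y = 0 ∧ z = 0) ∧
  ∀ X Y Z : ℂ, T (X • w + Y • v + Z • u) (X • w + Y • v + Z • u) (X • w + Y • v + Z • u) =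
    Y ^ 2 * Z - X ^ 3 - a * X * Z ^ 2 - b * Z ^ 3

/-- a flex gives a Weierstrass form in which the flex is `(0 : 1 : 0)` -/
theorem FlexData.exists_weier {v w u0 : V3} (fd : FlexData T v w u0) (hT : Rep f T)
    (hsm : Smooth3 f) :
    ∃ (s : ℂ) (u : V3) (a b : ℂ), s ≠ 0 ∧ IsWeier T (s • w) v u a b := by
  have ht := fd.vvu0_ne hT hsm
  have hα := fd.www_ne hT hsm
  -- adjust the complementary vector
  obtain ⟨p, hp⟩ : ∃ p : ℂ, p = -(T v u0 u0) / (2 * T v v u0) := ⟨_, rfl⟩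
  obtain ⟨q, hq⟩ : ∃ q : ℂ, q = -(T w w u0) / T w w w := ⟨_, rfl⟩
  obtain ⟨u1, hu1⟩ : ∃ u1 : V3, u1 = u0 + p • v + q • w := ⟨_, rfl⟩
  have e1 : T v u1 u1 = 0 := by
    rw [hu1]
    simp only [map_add, map_smul, LinearMap.add_apply, LinearMap.smul_apply, smul_eq_mul]
    rw [fd.hvw, fd.hvw, fd.hvw, hT.symm23 v u0 w, fd.hvw, fd.hFv, fd.vvw hT, hT.symm23 v u0 v, hp]
    field_simp
    ring
  have e2 : T w w u1 = 0 := by
    rw [hu1]
    simp only [map_add, map_smul, smul_eq_mul]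
    rw [fd.wwv hT, hq]
    field_simp
    ring
  have e3 : T v v u1 = T v v u0 := by
    rw [hu1]
    simp only [map_add, map_smul, smul_eq_mul]
    rw [fd.hFv, fd.vvw hT]
    ring
  have hind1 : ∀ x y z : ℂ, x • w + y • v + z • u1 = 0 → x = 0 ∧ y = 0 ∧ z = 0 := by
    intro x y z h
    have := indep_of_not_mem fd.hv fd.hw fd.hu0 (y + z * p) (x + z * q) z (by
      rw [← h, hu1]; module)
    obtain ⟨h1, h2, h3⟩ := this
    subst h3
    simp only [zero_mul, add_zero] at h1 h2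
    exact ⟨h2, h1, rfl⟩
  have hexp : ∀ X Y Z : ℂ,
      T (X • w + Y • v + Z • u1) (X • w + Y • v + Z • u1) (X • w + Y • v + Z • u1) =
        T w w w * X ^ 3 + 3 * T v v u0 * Y ^ 2 * Z + 3 * T w u1 u1 * X * Z ^ 2
          + T u1 u1 u1 * Z ^ 3 := by
    intro X Y Z
    rw [hT.cube_expand3, fd.wwv hT, fd.wvx hT v, fd.hFv, hT.symm13 u1 w w, e2,
      hT.symm13 u1 w v, fd.hvw, hT.symm13 u1 v v, e3, e1]
    ring
  -- rescale
  obtain ⟨s, hs⟩ := IsAlgClosed.exists_pow_nat_eq (-1 / T w w w) (n := 3) (by norm_num)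
  have hs0 : s ≠ 0 := by
    rintro rfl
    rw [zero_pow (by norm_num)] at hs
    have : (-1 : ℂ) / T w w w ≠ 0 := div_ne_zero (by norm_num) hα
    exact this hs.symm
  obtain ⟨r, hr⟩ : ∃ r : ℂ, r = 1 / (3 * T v v u0) := ⟨_, rfl⟩
  have hr0 : r ≠ 0 := by
    rw [hr]
    exact div_ne_zero one_ne_zero (mul_ne_zero (by norm_num) ht)
  refine ⟨s, r • u1, -(3 * T w u1 u1 * s * r ^ 2), -(T u1 u1 u1 * r ^ 3), hs0, ?_, ?_⟩
  · intro x y z h
    have := hind1 (x * s) y (z * r) (by rw [← h]; module)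
    obtain ⟨h1, h2, h3⟩ := this
    exact ⟨(mul_eq_zero.mp h1).resolve_right hs0, h2, (mul_eq_zero.mp h3).resolve_right hr0⟩
  · intro X Y Z
    have := hexp (X * s) Y (Z * r)
    have e : X • s • w + Y • v + Z • r • u1 = (X * s) • w + Y • v + (Z * r) • u1 := by module
    rw [e, this]
    have h1 : T w w w * s ^ 3 = -1 := by
      rw [hs]; field_simp
    have h2 : 3 * T v v u0 * r = 1 := by
      rw [hr]; field_simp
    linear_combination X ^ 3 * h1 + Y ^ 2 * Z * h2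

end Groth.Agent.H21.Cubic
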