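import Mathlib
import Groth.Agent.H21.Cubic.Weier
import Groth.Agent.H21.Cubic.Hesse
open MvPolynomial

namespace Groth.Agent.H21.Cubic

variable {f : MvPolynomial (Fin 3) ℂ} {T : V3 →ₗ[ℂ] V3 →ₗ[ℂ] V3 →ₗ[ℂ] ℂ}

lemma spans_of_indep {w v u : V3}
    (h : ∀ x y z : ℂ, x • w + y • v + z • u = 0 → x = 0 ∧ y = 0 ∧ z = 0) (y : V3) :
    ∃ a b c : ℂ, a • w + b • v + c • u = y := by
  have hli : LinearIndependent ℂ ![w, v, u] := by
    rw [Fintype.linearIndependent_iff]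
    intro g hg
    rw [Fin.sum_univ_three] at hg
    simp only [Matrix.cons_val_zero, Matrix.cons_val_one, Matrix.cons_val_two] at hg
    obtain ⟨h0, h1, h2⟩ := h (g 0) (g 1) (g 2) (by simpa using hg)
    intro i
    fin_cases i
    · exact h0
    · exact h1
    · exact h2
  have htop := hli.span_eq_top_of_card_eq_finrank' (by simp [V3])
  have hr : Set.range ![w, v, u] = {w, v, u} := by
    ext x
    simp only [Matrix.range_cons, Matrix.range_empty, Set.union_empty, Set.mem_union,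
      Set.mem_singleton_iff, Set.mem_insert_iff]
  rw [hr] at htop
  have : y ∈ Submodule.span ℂ {w, v, u} := by rw [htop]; trivial
  rw [Submodule.mem_span_triple] at this
  exact this

/-- the Weierstrass cubic `x³ + a x + b` has no double root when the curve is smooth -/
theorem IsWeier.no_double_root {w v u : V3} {a b : ℂ} (hW : IsWeier T w v u a b) (hT : Rep f T)
    (hsm : Smooth3 f) (x1 : ℂ) (h1 : x1 ^ 3 + a * x1 + b = 0) (h2 : 3 * x1 ^ 2 + a = 0) :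
    False := by
  obtain ⟨hind, hexp⟩ := hW
  obtain ⟨P, hP⟩ : ∃ P : V3, P = x1 • w + (0 : ℂ) • v + (1 : ℂ) • u := ⟨_, rfl⟩
  have hP0 : P ≠ 0 := by
    intro h
    rw [hP] at h
    exact one_ne_zero (hind _ _ _ h).2.2
  have hFP : T P P P = 0 := by
    rw [hP, hexp]
    linear_combination -h1
  apply hT.tangent_ne_zero3 hsm hP0 hFP
  apply LinearMap.ext
  intro y
  obtain ⟨X, Y, Z, rfl⟩ := spans_of_indep hind y
  obtain ⟨y, hy⟩ : ∃ y : V3, y = X • w + Y • v + Z • u := ⟨_, rfl⟩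
  rw [← hy]
  have key : ∀ t : ℂ, (T P P P - (-(x1 ^ 3 + a * x1 + b))) +
      (3 * T P P y - (-(3 * x1 ^ 2 + a) * X + (-2 * a * x1 - 3 * b) * Z)) * t +
      (3 * T P y y - (Y ^ 2 - 3 * x1 * X ^ 2 - a * (2 * X * Z + x1 * Z ^ 2) - 3 * b * Z ^ 2)) * t ^ 2
      + (T y y y - (Y ^ 2 * Z - X ^ 3 - a * X * Z ^ 2 - b * Z ^ 3)) * t ^ 3 = 0 := by
    intro t
    have e : P + t • y = (x1 + t * X) • w + (t * Y) • v + (1 + t * Z) • u := by
      rw [hP, hy]; module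
    have := hexp (x1 + t * X) (t * Y) (1 + t * Z)
    rw [← e, hT.cube_add_smul] at this
    linear_combination this
  obtain ⟨-, hc1, -, -⟩ := cubic_coeffs_zero _ _ _ _ key
  have hz : (-2 * a * x1 - 3 * b) = 0 := by linear_combination (-3) * h1 + x1 * h2
  rw [h2, hz] at hc1
  simp only [neg_zero, zero_mul, add_zero, sub_zero] at hc1
  have h3 : (3 : ℂ) ≠ 0 := by norm_num
  simpa using (mul_eq_zero.mp hc1).resolve_left h3

end Groth.Agent.H21.Cubic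

namespace Groth.Agent.H21.Cubic
open Polynomial in
lemma exists_cubic_root' (c0 c1 c2 c3 : ℂ) (h3 : c3 ≠ 0) :
    ∃ t : ℂ, c0 + c1 * t + c2 * t ^ 2 + c3 * t ^ 3 = 0 := by
  let P : Polynomial ℂ := Polynomial.C c0 + Polynomial.C c1 * Polynomial.X +
    Polynomial.C c2 * Polynomial.X ^ 2 + Polynomial.C c3 * Polynomial.X ^ 3
  have hdeg : P.degree = 3 := by
    simp only [P]
    compute_degree!
  have hne : P.degree ≠ 0 := by rw [hdeg]; norm_num
  obtain ⟨t, ht⟩ := IsAlgClosed.exists_root P hne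
  refine ⟨t, ?_⟩
  simpa [P, Polynomial.IsRoot] using ht

open Polynomial in
lemma exists_quartic_root (c0 c1 c2 c3 c4 : ℂ) (h4 : c4 ≠ 0) :
    ∃ t : ℂ, c0 + c1 * t + c2 * t ^ 2 + c3 * t ^ 3 + c4 * t ^ 4 = 0 := by
  let P : Polynomial ℂ := Polynomial.C c0 + Polynomial.C c1 * Polynomial.X +
    Polynomial.C c2 * Polynomial.X ^ 2 + Polynomial.C c3 * Polynomial.X ^ 3 +
    Polynomial.C c4 * Polynomial.X ^ 4
  have hdeg : P.degree = 4 := by
    simp only [P]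
    compute_degree!
  have hne : P.degree ≠ 0 := by rw [hdeg]; norm_num
  obtain ⟨t, ht⟩ := IsAlgClosed.exists_root P hne
  refine ⟨t, ?_⟩
  simpa [P, Polynomial.IsRoot] using ht

/-- a three-torsion point and the Hesse parameter of a Weierstrass cubic -/
lemma exists_torsion_data (a b : ℂ)
    (hnd : ∀ x1 : ℂ, x1 ^ 3 + a * x1 + b = 0 → 3 * x1 ^ 2 + a = 0 → False) :
    ∃ x0 y0 lam k : ℂ, y0 ≠ 0 ∧ lam ≠ 0 ∧ y0 ^ 2 = x0 ^ 3 + a * x0 + b ∧
      2 * y0 * lam = 3 * x0 ^ 2 + a ∧ lam ^ 2 = 3 * x0 ∧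
      3 * y0 * (k + 2) ^ 3 = 4 * lam ^ 3 * (k ^ 2 + k + 1) ∧ k ≠ 1 ∧ k ^ 3 ≠ 1 ∧ k + 2 ≠ 0 := by
  -- the three-torsion abscissa
  obtain ⟨x0, hx0, hpsi⟩ : ∃ x0 : ℂ, x0 ≠ 0 ∧
      3 * x0 ^ 4 + 6 * a * x0 ^ 2 + 12 * b * x0 - a ^ 2 = 0 := by
    by_cases ha : a = 0
    · subst ha
      have hb : b ≠ 0 := by
        rintro rfl
        exact hnd 0 (by ring) (by ring)
      obtain ⟨x0, hx0⟩ := IsAlgClosed.exists_pow_nat_eq (-4 * b) (n := 3) (by norm_num)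
      refine ⟨x0, ?_, ?_⟩
      · rintro rfl
        rw [zero_pow (by norm_num)] at hx0
        apply hb
        linear_combination (1 / 4 : ℂ) * hx0
      · linear_combination 3 * x0 * hx0
    · obtain ⟨x0, hx0⟩ := exists_quartic_root (-a ^ 2) (12 * b) (6 * a) 0 3 (by norm_num)
      refine ⟨x0, ?_, by linear_combination hx0⟩
      rintro rfl
      apply ha
      have : a ^ 2 = 0 := by linear_combination -hx0
      exact (pow_eq_zero_iff (by norm_num)).mp this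
  obtain ⟨y0, hy0⟩ := IsAlgClosed.exists_pow_nat_eq (x0 ^ 3 + a * x0 + b) (n := 2) (by norm_num)
  have hy00 : y0 ≠ 0 := by
    rintro rfl
    rw [zero_pow (by norm_num)] at hy0
    have h2 : (3 * x0 ^ 2 + a) ^ 2 = 0 := by
      linear_combination (-12 * x0) * hy0 - hpsi
    exact hnd x0 hy0.symm ((pow_eq_zero_iff (by norm_num)).mp h2)
  obtain ⟨lam, hlam⟩ : ∃ lam : ℂ, lam = (3 * x0 ^ 2 + a) / (2 * y0) := ⟨_, rfl⟩
  have h2yl : 2 * y0 * lam = 3 * x0 ^ 2 + a := by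
    rw [hlam]; field_simp
  have hlam2 : lam ^ 2 = 3 * x0 := by
    have h4 : (2 * y0) ^ 2 * (lam ^ 2 - 3 * x0) = 0 := by
      linear_combination (2 * y0 * lam + (3 * x0 ^ 2 + a)) * h2yl - 12 * x0 * hy0 - hpsi
    have h5 : (2 * y0) ^ 2 ≠ 0 := pow_ne_zero _ (mul_ne_zero two_ne_zero hy00)
    have := (mul_eq_zero.mp h4).resolve_left h5
    linear_combination this
  have hlam0 : lam ≠ 0 := by
    rintro rfl
    apply hx0
    linear_combination (-1 / 3 : ℂ) * hlam2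
  obtain ⟨k, hk⟩ := exists_cubic_root' (24 * y0 - 4 * lam ^ 3) (36 * y0 - 4 * lam ^ 3)
    (18 * y0 - 4 * lam ^ 3) (3 * y0) (mul_ne_zero (by norm_num) hy00)
  have hkeq : 3 * y0 * (k + 2) ^ 3 = 4 * lam ^ 3 * (k ^ 2 + k + 1) := by
    linear_combination hk
  have hk2 : k + 2 ≠ 0 := by
    intro h
    have hk' : k = -2 := by linear_combination h
    rw [hk'] at hkeq
    have : lam ^ 3 = 0 := by linear_combination (-1 / 12 : ℂ) * hkeq
    exact hlam0 ((pow_eq_zero_iff (by norm_num)).mp this)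
  have hkq : k ^ 2 + k + 1 ≠ 0 := by
    intro h
    rw [h, mul_zero] at hkeq
    have : (k + 2) ^ 3 = 0 :=
      (mul_eq_zero.mp hkeq).resolve_left (mul_ne_zero (by norm_num) hy00)
    exact hk2 ((pow_eq_zero_iff (by norm_num)).mp this)
  have hk1 : k ≠ 1 := by
    rintro rfl
    have h1 : 27 * y0 = 4 * lam ^ 3 := by linear_combination (1 / 3 : ℂ) * hkeq
    have ha : 27 * (3 * x0 ^ 2 + a) = 72 * x0 ^ 2 := by
      linear_combination (-27) * h2yl + 2 * lam * h1 + 8 * (lam ^ 2 + 3 * x0) * hlam2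
    have hy2 : 729 * y0 ^ 2 = 432 * x0 ^ 3 := by
      linear_combination (27 * y0 + 4 * lam ^ 3) * h1
        + 16 * (lam ^ 4 + 3 * x0 * lam ^ 2 + 9 * x0 ^ 2) * hlam2
    have ha' : a = -x0 ^ 2 / 3 := by linear_combination (1 / 27 : ℂ) * ha
    have hb' : b = -2 * x0 ^ 3 / 27 := by
      rw [hy0, ha'] at hy2
      linear_combination (1 / 729 : ℂ) * hy2
    apply hnd (-x0 / 3)
    · rw [ha', hb']; ring
    · rw [ha']; ring
  refine ⟨x0, y0, lam, k, hy00, hlam0, hy0, h2yl, hlam2, hkeq, hk1, ?_, hk2⟩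
  intro h3
  have : (k - 1) * (k ^ 2 + k + 1) = 0 := by linear_combination h3
  rcases mul_eq_zero.mp this with h | h
  · exact hk1 (by linear_combination h)
  · exact hkq h

end Groth.Agent.H21.Cubic

namespace Groth.Agent.H21.Cubic
open MvPolynomial

variable {f : MvPolynomial (Fin 3) ℂ} {T : V3 →ₗ[ℂ] V3 →ₗ[ℂ] V3 →ₗ[ℂ] ℂ}

/-- the matrix with columns `w, v, u` -/
def colMat (w v u : V3) : Matrix (Fin 3) (Fin 3) ℂ := Matrix.of fun i j => ![w, v, u] j i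

lemma colMat_mulVec (w v u ζ : V3) :
    (colMat w v u).mulVec ζ = ζ 0 • w + ζ 1 • v + ζ 2 • u := by
  ext i
  simp [colMat, Matrix.mulVec, dotProduct, Fin.sum_univ_three]
  ring

lemma isUnit_det_colMat {w v u : V3}
    (hind : ∀ x y z : ℂ, x • w + y • v + z • u = 0 → x = 0 ∧ y = 0 ∧ z = 0) :
    IsUnit (colMat w v u).det := by
  rw [← Matrix.isUnit_iff_isUnit_det, ← Matrix.mulVec_injective_iff_isUnit]
  intro ζ ζ' h
  have h0 : (colMat w v u).mulVec (ζ - ζ') = 0 := by rw [Matrix.mulVec_sub, h, sub_self]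
  rw [colMat_mulVec] at h0
  obtain ⟨h1, h2, h3⟩ := hind _ _ _ h0
  ext i
  fin_cases i
  · exact sub_eq_zero.mp h1
  · exact sub_eq_zero.mp h2
  · exact sub_eq_zero.mp h3

lemma weier_eq_tau (a b x0 y0 lam X Y Z : ℂ) (hy0 : y0 ≠ 0) (hlam0 : lam ≠ 0)
    (h1 : y0 ^ 2 = x0 ^ 3 + a * x0 + b) (h2 : 2 * y0 * lam = 3 * x0 ^ 2 + a)
    (h3 : lam ^ 2 = 3 * x0) :
    Y ^ 2 * Z - X ^ 3 - a * X * Z ^ 2 - b * Z ^ 3 =
      (-2 * y0 * Z) * (lam * X - Y + (y0 - lam * x0) * Z) * (lam * X + Y + (y0 - lam * x0) * Z)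
          / (2 * y0)
        - ((-2 * y0 * Z) + (lam * X - Y + (y0 - lam * x0) * Z)
          + (lam * X + Y + (y0 - lam * x0) * Z)) ^ 3 / (8 * lam ^ 3) := by
  have e1 : Y ^ 2 * Z - X ^ 3 - a * X * Z ^ 2 - b * Z ^ 3 =
      Z * Y ^ 2 - Z * (y0 * Z + lam * (X - x0 * Z)) ^ 2 - (X - x0 * Z) ^ 3 := by
    linear_combination Z ^ 3 * h1 + Z ^ 2 * (X - x0 * Z) * h2 + Z * (X - x0 * Z) ^ 2 * h3
  rw [e1]
  field_simp
  ring

lemma tau_eq_hesse (y0 lam k x y z : ℂ) (hy0 : y0 ≠ 0) (hlam0 : lam ≠ 0)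
    (hk : 3 * y0 * (k + 2) ^ 3 = 4 * lam ^ 3 * (k ^ 2 + k + 1)) :
    (k * x + y + z) * (x + k * y + z) * (x + y + k * z) / (2 * y0)
        - ((k * x + y + z) + (x + k * y + z) + (x + y + k * z)) ^ 3 / (8 * lam ^ 3) =
      (-(k - 1) ^ 2 / (6 * y0)) * (x ^ 3 + y ^ 3 + z ^ 3 - 3 * k * (x * y * z)) := by
  field_simp
  linear_combination (-4 * (x + y + z) ^ 3) * hk

end Groth.Agent.H21.Cubic

namespace Groth.Agent.H21.Cubic
open MvPolynomial

variable {f : MvPolynomial (Fin 3) ℂ} {T : V3 →ₗ[ℂ] V3 →ₗ[ℂ] V3 →ₗ[ℂ] ℂ}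

/-- polynomial identity vs pointwise identity for linear substitutions, two polynomials -/
lemma aeval_linear_eq_iff' {n : ℕ} (f g : MvPolynomial (Fin n) ℂ) (A : Matrix (Fin n) (Fin n) ℂ)
    (c : ℂ) :
    aeval (fun i : Fin n => ∑ j : Fin n, C (A i j) * X j) f = C c * g ↔
      ∀ v : Fin n → ℂ, eval (A.mulVec v) f = c * eval v g := by
  have key : ∀ v : Fin n → ℂ,
      eval v (aeval (fun i : Fin n => ∑ j : Fin n, C (A i j) * X j) f) = eval (A.mulVec v) f := by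
    intro v
    have h1 := aeval_bind₁ (R := ℂ) (S := ℂ) v (fun i : Fin n => ∑ j : Fin n, C (A i j) * X j) f
    have e1 : ∀ (w : Fin n → ℂ) (p : MvPolynomial (Fin n) ℂ), eval w p = aeval w p :=
      fun w p => rfl
    rw [e1, e1]
    change aeval v (bind₁ _ f) = _
    rw [h1]
    congr 2
    funext i
    simp [Matrix.mulVec, dotProduct]
  constructor
  · intro h v
    rw [← key, h]
    simp
  · intro h
    apply MvPolynomial.funext
    intro v
    rw [key, h]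
    simp

/-- Hesse normal form of a Weierstrass cubic -/
theorem IsWeier.exists_hesse {w v u : V3} {a b : ℂ} (hW : IsWeier T w v u a b) (hT : Rep f T)
    (hsm : Smooth3 f) :
    ∃ (A : Matrix (Fin 3) (Fin 3) ℂ) (k c : ℂ), IsUnit A.det ∧ k ^ 3 ≠ 1 ∧ c ≠ 0 ∧
      ∀ ξ : V3, eval (A.mulVec ξ) f = c * eval ξ (HesseCubic.form k) := by
  obtain ⟨x0, y0, lam, k, hy0, hlam0, h1, h2, h3, hk, hk1, hk3, hk2⟩ :=
    exists_torsion_data a b (hW.no_double_root hT hsm)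
  obtain ⟨N, hN⟩ : ∃ N : Matrix (Fin 3) (Fin 3) ℂ,
      N = !![0, 0, -2 * y0; lam, -1, y0 - lam * x0; lam, 1, y0 - lam * x0] := ⟨_, rfl⟩
  obtain ⟨K, hK⟩ : ∃ K : Matrix (Fin 3) (Fin 3) ℂ, K = !![k, 1, 1; 1, k, 1; 1, 1, k] := ⟨_, rfl⟩
  have hNdet : N.det = -4 * y0 * lam := by
    rw [hN, Matrix.det_fin_three]
    simp
    ring
  have hKdet : K.det = (k - 1) ^ 2 * (k + 2) := by
    rw [hK, Matrix.det_fin_three]
    simp
    ring
  have hNu : IsUnit N.det := by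
    rw [hNdet, isUnit_iff_ne_zero]
    exact mul_ne_zero (mul_ne_zero (by norm_num) hy0) hlam0
  have hKu : IsUnit K.det := by
    rw [hKdet, isUnit_iff_ne_zero]
    exact mul_ne_zero (pow_ne_zero _ (sub_ne_zero.mpr hk1)) hk2
  refine ⟨colMat w v u * N⁻¹ * K, k, -(k - 1) ^ 2 / (6 * y0), ?_, hk3, ?_, ?_⟩
  · rw [Matrix.det_mul, Matrix.det_mul]
    refine ((isUnit_det_colMat hW.1).mul ?_).mul hKu
    rw [Matrix.det_nonsing_inv]
    exact IsUnit.ringInverse hNu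
  · exact div_ne_zero (neg_ne_zero.mpr (pow_ne_zero _ (sub_ne_zero.mpr hk1)))
      (mul_ne_zero (by norm_num) hy0)
  · intro ξ
    obtain ⟨ζ, hζ⟩ : ∃ ζ : V3, ζ = N⁻¹.mulVec (K.mulVec ξ) := ⟨_, rfl⟩
    have hNζ : N.mulVec ζ = K.mulVec ξ := by
      rw [hζ, Matrix.mulVec_mulVec, Matrix.mul_nonsing_inv N hNu, Matrix.one_mulVec]
    have hM : (colMat w v u * N⁻¹ * K).mulVec ξ = ζ 0 • w + ζ 1 • v + ζ 2 • u := by
      rw [← Matrix.mulVec_mulVec, ← Matrix.mulVec_mulVec, ← hζ, colMat_mulVec]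
    rw [hM, hT.eval_eq, hW.2, weier_eq_tau a b x0 y0 lam (ζ 0) (ζ 1) (ζ 2) hy0 hlam0 h1 h2 h3]
    have e0 : -2 * y0 * ζ 2 = k * ξ 0 + ξ 1 + ξ 2 := by
      have := congrFun hNζ 0
      rw [hN, hK] at this
      simp [Matrix.mulVec, dotProduct, Fin.sum_univ_three] at this
      linear_combination this
    have e1 : lam * ζ 0 - ζ 1 + (y0 - lam * x0) * ζ 2 = ξ 0 + k * ξ 1 + ξ 2 := by
      have := congrFun hNζ 1
      rw [hN, hK] at this
      simp [Matrix.mulVec, dotProduct, Fin.sum_univ_three] at this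
      linear_combination this
    have e2 : lam * ζ 0 + ζ 1 + (y0 - lam * x0) * ζ 2 = ξ 0 + ξ 1 + k * ξ 2 := by
      have := congrFun hNζ 2
      rw [hN, hK] at this
      simp [Matrix.mulVec, dotProduct, Fin.sum_univ_three] at this
      linear_combination this
    rw [e0, e1, e2, tau_eq_hesse y0 lam k (ξ 0) (ξ 1) (ξ 2) hy0 hlam0 hk, hesse_eval]

/-- every smooth plane cubic is projectively equivalent to a Hesse cubic -/
theorem exists_hesse_form (hf : f.IsHomogeneous 3) (hf0 : f ≠ 0) (hsm : Smooth3 f) :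
    ∃ (A : Matrix (Fin 3) (Fin 3) ℂ) (k c : ℂ), IsUnit A.det ∧ k ^ 3 ≠ 1 ∧ c ≠ 0 ∧
      aeval (fun i : Fin 3 => ∑ j : Fin 3, C (A i j) * X j) f = C c * HesseCubic.form k := by
  obtain ⟨T, hT⟩ := exists_rep f hf
  obtain ⟨v, w, hv, hFv, hvw, hw⟩ := exists_flex hT hf hf0 hsm
  obtain ⟨u0, hu0⟩ := exists_not_mem_of_finrank_lt (Submodule.span ℂ {v, w}) (by
    rw [finrank_span_pair3 hv hw]; norm_num)
  have fd : FlexData T v w u0 := ⟨hv, hw, hu0, hFv, hvw⟩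
  obtain ⟨s, u, a, b, -, hW⟩ := fd.exists_weier hT hsm
  obtain ⟨A, k, c, hA, hk, hc, h⟩ := hW.exists_hesse hT hsm
  exact ⟨A, k, c, hA, hk, hc, (aeval_linear_eq_iff' f _ A c).mpr h⟩

end Groth.Agent.H21.Cubic
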