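import Mathlib
import Groth.Agent.H21.Cubic.HesseForm
open MvPolynomial

namespace Groth.Agent.H21.Cubic

/-- flex of a plane cubic, as in the statements -/
def IsFlex (f : MvPolynomial (Fin 3) ℂ) (v : Fin 3 → ℂ) : Prop :=
  ∃ w : Fin 3 → ℂ, LinearIndependent ℂ ![v, w] ∧ ∀ t : ℂ, eval (v + t • w) f = t ^ 3 * eval w f

lemma mulVec_injective_of_isUnit_det {M : Matrix (Fin 3) (Fin 3) ℂ} (hM : IsUnit M.det) :
    Function.Injective M.mulVec := by
  rw [Matrix.mulVec_injective_iff_isUnit, Matrix.isUnit_iff_isUnit_det]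
  exact hM

/-- flexes are transported by linear equivalences of cubics -/
lemma IsFlex.transport {f g : MvPolynomial (Fin 3) ℂ} {M : Matrix (Fin 3) (Fin 3) ℂ} {c0 : ℂ}
    (hM : IsUnit M.det) (h : ∀ ξ : V3, eval (M.mulVec ξ) f = c0 * eval ξ g) {p : V3}
    (hp : IsFlex g p) : IsFlex f (M.mulVec p) := by
  obtain ⟨w, hli, hw⟩ := hp
  refine ⟨M.mulVec w, ?_, ?_⟩
  · rw [LinearIndependent.pair_iff] at hli ⊢
    intro s t hst
    apply hli s t
    apply mulVec_injective_of_isUnit_det hM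
    rw [Matrix.mulVec_add, Matrix.mulVec_smul, Matrix.mulVec_smul, hst, Matrix.mulVec_zero]
  · intro t
    rw [← Matrix.mulVec_smul, ← Matrix.mulVec_add, h, hw, h]
    ring

lemma eval_inv_mulVec {f g : MvPolynomial (Fin 3) ℂ} {M : Matrix (Fin 3) (Fin 3) ℂ} {c0 : ℂ}
    (hM : IsUnit M.det) (hc0 : c0 ≠ 0) (h : ∀ ξ : V3, eval (M.mulVec ξ) f = c0 * eval ξ g)
    (x : V3) : eval (M⁻¹.mulVec x) g = c0⁻¹ * eval x f := by
  have := h (M⁻¹.mulVec x)
  rw [Matrix.mulVec_mulVec, Matrix.mul_nonsing_inv M hM, Matrix.one_mulVec] at this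
  rw [this]
  field_simp

lemma isUnit_det_inv {M : Matrix (Fin 3) (Fin 3) ℂ} (hM : IsUnit M.det) : IsUnit M⁻¹.det := by
  rw [Matrix.det_nonsing_inv]
  exact IsUnit.ringInverse hM

/-- automorphisms of the Hesse cubic -/
structure HAut (k : ℂ) (g : Matrix (Fin 3) (Fin 3) ℂ) : Prop where
  det : IsUnit g.det
  pres : ∀ ξ : V3, eval (g.mulVec ξ) (HesseCubic.form k) = eval ξ (HesseCubic.form k)

lemma HAut.mul {k : ℂ} {g h : Matrix (Fin 3) (Fin 3) ℂ} (hg : HAut k g) (hh : HAut k h) :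
    HAut k (g * h) where
  det := by rw [Matrix.det_mul]; exact hg.det.mul hh.det
  pres ξ := by rw [← Matrix.mulVec_mulVec, hg.pres, hh.pres]

lemma HAut.inv {k : ℂ} {g : Matrix (Fin 3) (Fin 3) ℂ} (hg : HAut k g) : HAut k g⁻¹ where
  det := isUnit_det_inv hg.det
  pres ξ := by
    have := hg.pres (g⁻¹.mulVec ξ)
    rw [Matrix.mulVec_mulVec, Matrix.mul_nonsing_inv g hg.det, Matrix.one_mulVec] at this
    exact this.symm

def sigmaM : Matrix (Fin 3) (Fin 3) ℂ := !![0, 0, 1; 1, 0, 0; 0, 1, 0]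
def tauM (ε : ℂ) : Matrix (Fin 3) (Fin 3) ℂ := !![1, 0, 0; 0, ε, 0; 0, 0, ε ^ 2]

lemma sigmaM_mulVec (ξ : V3) : sigmaM.mulVec ξ = ![ξ 2, ξ 0, ξ 1] := by
  ext i; fin_cases i <;> simp [sigmaM, Matrix.mulVec, dotProduct, Fin.sum_univ_three]

lemma tauM_mulVec (ε : ℂ) (ξ : V3) : (tauM ε).mulVec ξ = ![ξ 0, ε * ξ 1, ε ^ 2 * ξ 2] := by
  ext i; fin_cases i <;> simp [tauM, Matrix.mulVec, dotProduct, Fin.sum_univ_three]

lemma hAut_sigmaM (k : ℂ) : HAut k sigmaM where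
  det := by
    rw [sigmaM, Matrix.det_fin_three]
    simp
  pres ξ := by
    rw [sigmaM_mulVec, hesse_eval, hesse_eval]
    simp
    ring

lemma hAut_tauM (k ε : ℂ) (hε : ε ^ 3 = 1) : HAut k (tauM ε) where
  det := by
    rw [tauM, Matrix.det_fin_three]
    simp
    rintro rfl
    simp at hε
  pres ξ := by
    rw [tauM_mulVec, hesse_eval, hesse_eval]
    simp
    linear_combination (ξ 1 ^ 3 + (ε ^ 3 + 1) * ξ 2 ^ 3 - 3 * k * (ξ 0 * ξ 1 * ξ 2)) * hε

end Groth.Agent.H21.Cubic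

namespace Groth.Agent.H21.Cubic
open MvPolynomial

/-- every flex of the Hesse cubic is the image of `(0,1,-1)` under an automorphism -/
lemma exists_hAut_from_p0 (k : ℂ) (hk : k ^ 3 ≠ 1) (p : V3) (hp : p ≠ 0)
    (hHp : eval p (HesseCubic.form k) = 0) (hflex : IsFlex (HesseCubic.form k) p) :
    ∃ g : Matrix (Fin 3) (Fin 3) ℂ, HAut k g ∧ ∃ d : ℂ, d ≠ 0 ∧ g.mulVec ![0, 1, -1] = d • p := by
  obtain ⟨γ, c, hγ, hcases⟩ := (hesse_flex_iff k hk p hp hHp).mp hflex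
  have hc : c ≠ 0 := by
    rintro rfl
    apply hp
    rcases hcases with h | h | h <;> rw [h, zero_smul]
  have hγ0 : γ ≠ 0 := by
    rintro rfl
    simp at hγ
  have hd : γ / c ≠ 0 := div_ne_zero hγ0 hc
  rcases hcases with h | h | h
  · refine ⟨tauM γ, hAut_tauM k γ hγ, γ / c, hd, ?_⟩
    rw [tauM_mulVec, h]
    ext i; fin_cases i
    · simp
    · simp; field_simp
    · simp; field_simp
  · refine ⟨sigmaM * tauM γ, (hAut_sigmaM k).mul (hAut_tauM k γ hγ), γ / c, hd, ?_⟩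
    rw [← Matrix.mulVec_mulVec, tauM_mulVec, sigmaM_mulVec, h]
    ext i; fin_cases i
    · simp; field_simp
    · simp
    · simp; field_simp
  · refine ⟨sigmaM * (sigmaM * tauM γ),
      (hAut_sigmaM k).mul ((hAut_sigmaM k).mul (hAut_tauM k γ hγ)), γ / c, hd, ?_⟩
    rw [← Matrix.mulVec_mulVec, ← Matrix.mulVec_mulVec, tauM_mulVec, sigmaM_mulVec, sigmaM_mulVec,
      h]
    ext i; fin_cases i
    · simp; field_simp
    · simp; field_simp
    · simp

/-- the automorphism group of a Hesse cubic acts transitively on its flexes -/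
theorem hesse_flex_transitive (k : ℂ) (hk : k ^ 3 ≠ 1) (p p' : V3) (hp : p ≠ 0) (hp' : p' ≠ 0)
    (hHp : eval p (HesseCubic.form k) = 0) (hHp' : eval p' (HesseCubic.form k) = 0)
    (hflex : IsFlex (HesseCubic.form k) p) (hflex' : IsFlex (HesseCubic.form k) p') :
    ∃ g : Matrix (Fin 3) (Fin 3) ℂ, HAut k g ∧ ∃ d : ℂ, g.mulVec p = d • p' := by
  obtain ⟨g, hg, d, hd, hgp⟩ := exists_hAut_from_p0 k hk p hp hHp hflex
  obtain ⟨g', hg', d', -, hgp'⟩ := exists_hAut_from_p0 k hk p' hp' hHp' hflex'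
  refine ⟨g' * g⁻¹, hg'.mul hg.inv, d⁻¹ * d', ?_⟩
  have h1 : g⁻¹.mulVec p = d⁻¹ • ![0, 1, -1] := by
    have : p = d⁻¹ • g.mulVec ![0, 1, -1] := by
      rw [hgp, smul_smul, inv_mul_cancel₀ hd, one_smul]
    rw [this, Matrix.mulVec_smul, Matrix.mulVec_mulVec, Matrix.nonsing_inv_mul g hg.det,
      Matrix.one_mulVec]
  rw [← Matrix.mulVec_mulVec, h1, Matrix.mulVec_smul, hgp', smul_smul]

end Groth.Agent.H21.Cubic

namespace Groth.Agent.H21.Cubic
open MvPolynomial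

variable {f : MvPolynomial (Fin 3) ℂ}

/-- the projective automorphism group of a smooth plane cubic acts transitively on the flexes -/
theorem flex_transitive (hf : f.IsHomogeneous 3) (hf0 : f ≠ 0) (hsm : Smooth3 f) (v v' : V3)
    (hv : v ≠ 0) (hv' : v' ≠ 0) (hfv : eval v f = 0) (hfv' : eval v' f = 0)
    (hflex : IsFlex f v) (hflex' : IsFlex f v') :
    ∃ (A : Matrix (Fin 3) (Fin 3) ℂ) (c d : ℂ), IsUnit A.det ∧
      aeval (fun i : Fin 3 => ∑ j : Fin 3, C (A i j) * X j) f = C c * f ∧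
      A.mulVec v = d • v' := by
  obtain ⟨M, k, c0, hM, hk, hc0, hMf⟩ := exists_hesse_form hf hf0 hsm
  rw [aeval_linear_eq_iff'] at hMf
  have hinv := eval_inv_mulVec hM hc0 hMf
  have hMi := isUnit_det_inv hM
  have hne : ∀ x : V3, x ≠ 0 → M⁻¹.mulVec x ≠ 0 := by
    intro x hx h
    apply hx
    apply mulVec_injective_of_isUnit_det hMi
    rw [h, Matrix.mulVec_zero]
  have hback : ∀ x : V3, M.mulVec (M⁻¹.mulVec x) = x := by
    intro x
    rw [Matrix.mulVec_mulVec, Matrix.mul_nonsing_inv M hM, Matrix.one_mulVec]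
  obtain ⟨g, hg, d, hgd⟩ := hesse_flex_transitive k hk (M⁻¹.mulVec v) (M⁻¹.mulVec v')
    (hne v hv) (hne v' hv') (by rw [hinv, hfv, mul_zero]) (by rw [hinv, hfv', mul_zero])
    (hflex.transport hMi hinv) (hflex'.transport hMi hinv)
  refine ⟨M * g * M⁻¹, 1, d, ?_, ?_, ?_⟩
  · rw [Matrix.det_mul, Matrix.det_mul]
    exact (hM.mul hg.det).mul hMi
  · rw [aeval_linear_eq_iff']
    intro x
    rw [← Matrix.mulVec_mulVec, ← Matrix.mulVec_mulVec, hMf, hg.pres, hinv, one_mul]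
    field_simp
  · rw [← Matrix.mulVec_mulVec, ← Matrix.mulVec_mulVec, hgd, Matrix.mulVec_smul, hback]

end Groth.Agent.H21.Cubic
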