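import Mathlib
import Groth.Agent.H21.Cubic.HesseAut
open MvPolynomial

namespace Groth.Agent.H21.Cubic

lemma exists_omega : ∃ ω : ℂ, ω ^ 2 + ω + 1 = 0 := by
  obtain ⟨s, hs⟩ := IsAlgClosed.exists_pow_nat_eq (-3 : ℂ) (n := 2) (by norm_num)
  refine ⟨(-1 + s) / 2, ?_⟩
  field_simp
  linear_combination hs

lemma eig_eq (B : Matrix (Fin 3) (Fin 3) ℂ) {x y : V3}
    (hind : ∀ s t : ℂ, s • x + t • y = 0 → s = 0 ∧ t = 0) {a1 a2 a3 α β : ℂ} (hα : α ≠ 0)
    (hβ : β ≠ 0) (h1 : B.mulVec x = a1 • x) (h2 : B.mulVec y = a2 • y)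
    (h3 : B.mulVec (α • x + β • y) = a3 • (α • x + β • y)) : a1 = a3 ∧ a2 = a3 := by
  rw [Matrix.mulVec_add, Matrix.mulVec_smul, Matrix.mulVec_smul, h1, h2] at h3
  have := hind (α * (a1 - a3)) (β * (a2 - a3)) (by
    have e : (α * (a1 - a3)) • x + (β * (a2 - a3)) • y =
        (α • a1 • x + β • a2 • y) - a3 • (α • x + β • y) := by module
    rw [e, h3, sub_self])
  obtain ⟨e1, e2⟩ := this
  exact ⟨sub_eq_zero.mp ((mul_eq_zero.mp e1).resolve_left hα),
    sub_eq_zero.mp ((mul_eq_zero.mp e2).resolve_left hβ)⟩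

/-- a matrix fixing the nine flex directions of a Hesse cubic is scalar -/
theorem scalar_of_fix_hesse_flexes (B : Matrix (Fin 3) (Fin 3) ℂ)
    (hB : ∀ γ : ℂ, γ ^ 3 = 1 → (∃ d : ℂ, B.mulVec ![0, 1, -γ] = d • ![0, 1, -γ]) ∧
      (∃ d : ℂ, B.mulVec ![-γ, 0, 1] = d • ![-γ, 0, 1])) :
    ∃ a : ℂ, ∀ ξ : V3, B.mulVec ξ = a • ξ := by
  obtain ⟨ω, hω⟩ := exists_omega
  have hω3 : ω ^ 3 = 1 := by linear_combination (ω - 1) * hω
  have hω1 : ω - 1 ≠ 0 := by
    intro h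
    have : ω = 1 := by linear_combination h
    rw [this] at hω
    norm_num at hω
  have hω0 : ω ≠ 0 := by
    rintro rfl
    norm_num at hω
  have hω23 : (ω ^ 2) ^ 3 = 1 := by rw [← pow_mul, mul_comm, pow_mul, hω3, one_pow]
  obtain ⟨⟨a1, ha1⟩, ⟨b1, hb1⟩⟩ := hB 1 (one_pow 3)
  obtain ⟨⟨a2, ha2⟩, ⟨b2, hb2⟩⟩ := hB ω hω3
  obtain ⟨⟨a3, ha3⟩, ⟨b3, hb3⟩⟩ := hB (ω ^ 2) hω23
  -- the plane x = 0
  have hindp : ∀ s t : ℂ, s • (![0, 1, -1] : V3) + t • ![0, 1, -ω] = 0 → s = 0 ∧ t = 0 := by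
    intro s t h
    have e1 := congrFun h 1
    have e2 := congrFun h 2
    simp at e1 e2
    have ht : t * (ω - 1) = 0 := by linear_combination -e1 - e2
    have ht0 := (mul_eq_zero.mp ht).resolve_right hω1
    subst ht0
    exact ⟨by linear_combination e1, rfl⟩
  have hp3 : (![0, 1, -ω ^ 2] : V3) = (-ω) • ![0, 1, -1] + (-ω ^ 2) • ![0, 1, -ω] := by
    ext i; fin_cases i
    · simp
    · simp; linear_combination hω
    · simp; linear_combination (-1 : ℂ) * hω - hω3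
  rw [hp3] at ha3
  obtain ⟨ea1, ea2⟩ := eig_eq B hindp (neg_ne_zero.mpr hω0)
    (neg_ne_zero.mpr (pow_ne_zero 2 hω0)) ha1 ha2 ha3
  -- the plane y = 0
  have hindq : ∀ s t : ℂ, s • (![-1, 0, 1] : V3) + t • ![-ω, 0, 1] = 0 → s = 0 ∧ t = 0 := by
    intro s t h
    have e1 := congrFun h 0
    have e2 := congrFun h 2
    simp at e1 e2
    have ht : t * (ω - 1) = 0 := by linear_combination -e1 - e2
    have ht0 := (mul_eq_zero.mp ht).resolve_right hω1
    subst ht0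
    exact ⟨by linear_combination e2, rfl⟩
  have hq3 : (![-ω ^ 2, 0, 1] : V3) = (-ω) • ![-1, 0, 1] + (-ω ^ 2) • ![-ω, 0, 1] := by
    ext i; fin_cases i
    · simp; linear_combination (-1 : ℂ) * hω - hω3
    · simp
    · simp; linear_combination hω
  rw [hq3] at hb3
  obtain ⟨eb1, eb2⟩ := eig_eq B hindq (neg_ne_zero.mpr hω0)
    (neg_ne_zero.mpr (pow_ne_zero 2 hω0)) hb1 hb2 hb3
  rw [ea1] at ha1
  rw [ea2] at ha2
  rw [eb1] at hb1
  rw [eb2] at hb2
  -- basis vectors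
  have he3 : (![0, 0, 1] : V3) = (ω - 1)⁻¹ • ((![0, 1, -1] : V3) - ![0, 1, -ω]) := by
    ext i; fin_cases i
    · simp
    · simp
    · simp; field_simp; ring
  have hBe3 : B.mulVec ![0, 0, 1] = a3 • ![0, 0, 1] := by
    rw [he3, Matrix.mulVec_smul, Matrix.mulVec_sub, ha1, ha2]
    module
  have he3' : (![0, 0, 1] : V3) = (ω - 1)⁻¹ • (ω • (![-1, 0, 1] : V3) - ![-ω, 0, 1]) := by
    ext i; fin_cases i
    · simp
    · simp
    · simp; field_simp
  have hBe3' : B.mulVec ![0, 0, 1] = b3 • ![0, 0, 1] := by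
    rw [he3', Matrix.mulVec_smul, Matrix.mulVec_sub, Matrix.mulVec_smul, hb1, hb2]
    module
  have hab : a3 = b3 := by
    have := congrFun (hBe3.symm.trans hBe3') 2
    simpa using this
  rw [← hab] at hb1
  have he2 : (![0, 1, 0] : V3) = ![0, 1, -1] + ![0, 0, 1] := by
    ext i; fin_cases i <;> simp
  have hBe2 : B.mulVec ![0, 1, 0] = a3 • ![0, 1, 0] := by
    rw [he2, Matrix.mulVec_add, ha1, hBe3, smul_add]
  have he1 : (![1, 0, 0] : V3) = ![0, 0, 1] - ![-1, 0, 1] := by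
    ext i; fin_cases i <;> simp
  have hBe1 : B.mulVec ![1, 0, 0] = a3 • ![1, 0, 0] := by
    rw [he1, Matrix.mulVec_sub, hb1, hBe3, smul_sub]
  refine ⟨a3, fun ξ => ?_⟩
  have hξ : ξ = ξ 0 • (![1, 0, 0] : V3) + ξ 1 • ![0, 1, 0] + ξ 2 • ![0, 0, 1] := by
    ext i; fin_cases i <;> simp
  conv_lhs => rw [hξ]
  rw [Matrix.mulVec_add, Matrix.mulVec_add, Matrix.mulVec_smul, Matrix.mulVec_smul,
    Matrix.mulVec_smul, hBe1, hBe2, hBe3]
  conv_rhs => rw [hξ]
  module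

end Groth.Agent.H21.Cubic

namespace Groth.Agent.H21.Cubic
open MvPolynomial

variable {f : MvPolynomial (Fin 3) ℂ}

lemma matrix_eq_of_mulVec3 {A B : Matrix (Fin 3) (Fin 3) ℂ}
    (h : ∀ v : V3, A.mulVec v = B.mulVec v) : A = B := by
  apply Matrix.toLin'.injective
  exact LinearMap.ext fun v => by rw [Matrix.toLin'_apply, Matrix.toLin'_apply, h]

/-- projective automorphisms of a smooth plane cubic act faithfully on the flexes -/
theorem scalar_of_fix_flexes (hf : f.IsHomogeneous 3) (hf0 : f ≠ 0) (hsm : Smooth3 f)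
    (A : Matrix (Fin 3) (Fin 3) ℂ)
    (hfix : ∀ v : V3, v ≠ 0 → eval v f = 0 → IsFlex f v → ∃ d : ℂ, A.mulVec v = d • v) :
    ∃ c : ℂ, A = c • (1 : Matrix (Fin 3) (Fin 3) ℂ) := by
  obtain ⟨M, k, c0, hM, hk, hc0, hMf⟩ := exists_hesse_form hf hf0 hsm
  rw [aeval_linear_eq_iff'] at hMf
  have hMi := isUnit_det_inv hM
  have hback : ∀ x : V3, M.mulVec (M⁻¹.mulVec x) = x := by
    intro x
    rw [Matrix.mulVec_mulVec, Matrix.mul_nonsing_inv M hM, Matrix.one_mulVec]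
  have hback' : ∀ x : V3, M⁻¹.mulVec (M.mulVec x) = x := by
    intro x
    rw [Matrix.mulVec_mulVec, Matrix.nonsing_inv_mul M hM, Matrix.one_mulVec]
  have hB : ∀ p : V3, p ≠ 0 → eval p (HesseCubic.form k) = 0 → IsFlex (HesseCubic.form k) p →
      ∃ d : ℂ, (M⁻¹ * A * M).mulVec p = d • p := by
    intro p hp hHp hflex
    obtain ⟨d, hd⟩ := hfix (M.mulVec p) (by
      intro h
      apply hp
      apply mulVec_injective_of_isUnit_det hM
      rw [h, Matrix.mulVec_zero]) (by rw [hMf, hHp, mul_zero]) (hflex.transport hM hMf)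
    refine ⟨d, ?_⟩
    rw [← Matrix.mulVec_mulVec, ← Matrix.mulVec_mulVec, hd, Matrix.mulVec_smul, hback']
  obtain ⟨a, ha⟩ := scalar_of_fix_hesse_flexes (M⁻¹ * A * M) (by
    intro γ hγ
    constructor
    · have hp : (![0, 1, -γ] : V3) ≠ 0 := by
        intro h
        have := congrFun h 1
        simp at this
      have hHp : eval (![0, 1, -γ] : V3) (HesseCubic.form k) = 0 := by
        rw [hesse_eval]; simp; linear_combination -hγ
      exact hB _ hp hHp ((hesse_flex_iff k hk _ hp hHp).mpr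
        ⟨γ, 1, hγ, Or.inl (one_smul _ _).symm⟩)
    · have hp : (![-γ, 0, 1] : V3) ≠ 0 := by
        intro h
        have := congrFun h 2
        simp at this
      have hHp : eval (![-γ, 0, 1] : V3) (HesseCubic.form k) = 0 := by
        rw [hesse_eval]; simp; linear_combination -hγ
      exact hB _ hp hHp ((hesse_flex_iff k hk _ hp hHp).mpr
        ⟨γ, 1, hγ, Or.inr (Or.inl (one_smul _ _).symm)⟩))
  refine ⟨a, ?_⟩
  apply matrix_eq_of_mulVec3
  intro x
  have h1 := ha (M⁻¹.mulVec x)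
  rw [← Matrix.mulVec_mulVec, ← Matrix.mulVec_mulVec, hback] at h1
  have h2 := congrArg M.mulVec h1
  rw [hback, Matrix.mulVec_smul, hback] at h2
  rw [h2, Matrix.smul_mulVec, Matrix.one_mulVec]

end Groth.Agent.H21.Cubic
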