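import Mathlib
import Groth.Agent.H21.Cubic.FlexFaithful
open MvPolynomial

namespace Groth.Agent.H21.Cubic

abbrev Tri := V3 →ₗ[ℂ] V3 →ₗ[ℂ] V3 →ₗ[ℂ] ℂ

/-- symmetric trilinear forms -/
def IsSymm3 (T : Tri) : Prop :=
  (∀ u v w, T u v w = T v u w) ∧ (∀ u v w, T u v w = T u w v)

lemma IsSymm3.add {T S : Tri} (hT : IsSymm3 T) (hS : IsSymm3 S) : IsSymm3 (T + S) :=
  ⟨fun u v w => by simp [hT.1 u v w, hS.1 u v w], fun u v w => by simp [hT.2 u v w, hS.2 u v w]⟩

lemma IsSymm3.smul {T : Tri} (hT : IsSymm3 T) (c : ℂ) : IsSymm3 (c • T) :=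
  ⟨fun u v w => by simp [hT.1 u v w], fun u v w => by simp [hT.2 u v w]⟩

/-- polarization: a symmetric trilinear form is determined by its cubic form -/
lemma polarization {T S : Tri} (hT : IsSymm3 T) (hS : IsSymm3 S)
    (h : ∀ v, T v v v = S v v v) : T = S := by
  obtain ⟨D, hD⟩ : ∃ D : Tri, D = T - S := ⟨_, rfl⟩
  have hD1 : ∀ u v w, D u v w = D v u w := by
    intro u v w; rw [hD]; simp [hT.1 u v w, hS.1 u v w]
  have hD2 : ∀ u v w, D u v w = D u w v := by
    intro u v w; rw [hD]; simp [hT.2 u v w, hS.2 u v w]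
  have hD0 : ∀ v, D v v v = 0 := by
    intro v; rw [hD]; simp [h v]
  have step1 : ∀ x y, D x x y = 0 := by
    intro x y
    have key : ∀ t : ℂ, D x x x + (3 * D x x y) * t + (3 * D x y y) * t ^ 2 + D y y y * t ^ 3 = 0 := by
      intro t
      have := hD0 (x + t • y)
      simp only [map_add, map_smul, LinearMap.add_apply, LinearMap.smul_apply, smul_eq_mul] at this
      rw [hD2 x y x, hD1 y x x, hD2 x y x, hD1 y x y, hD2 y y x, hD1 y x y] at this
      linear_combination this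
    obtain ⟨-, h1, -, -⟩ := cubic_coeffs_zero _ _ _ _ key
    have h3 : (3 : ℂ) ≠ 0 := by norm_num
    exact (mul_eq_zero.mp h1).resolve_left h3
  have step2 : ∀ x z y, D x z y = 0 := by
    intro x z y
    have key : ∀ t : ℂ, D x x y + (2 * D x z y) * t + D z z y * t ^ 2 = 0 := by
      intro t
      have := step1 (x + t • z) y
      simp only [map_add, map_smul, LinearMap.add_apply, LinearMap.smul_apply, smul_eq_mul] at this
      rw [hD1 z x y] at this
      linear_combination this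
    obtain ⟨-, h1, -⟩ := quad_coeffs_zero _ _ _ key
    exact (mul_eq_zero.mp h1).resolve_left two_ne_zero
  have : T - S = 0 := by
    rw [← hD]
    apply LinearMap.ext; intro x
    apply LinearMap.ext; intro z
    apply LinearMap.ext; intro y
    exact step2 x z y
  exact sub_eq_zero.mp this

/-- pullback of a trilinear form along a linear map -/
noncomputable def pull (T : Tri) (L : V3 →ₗ[ℂ] V3) : Tri :=
  ((T ∘ₗ L).compl₂ L).compr₂ (LinearMap.lcomp ℂ ℂ L)

@[simp] lemma pull_apply (T : Tri) (L : V3 →ₗ[ℂ] V3) (x y z : V3) :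
    pull T L x y z = T (L x) (L y) (L z) := by
  simp [pull]

lemma IsSymm3.pull {T : Tri} (hT : IsSymm3 T) (L : V3 →ₗ[ℂ] V3) : IsSymm3 (pull T L) :=
  ⟨fun u v w => by simp [hT.1 (L u) (L v) (L w)], fun u v w => by simp [hT.2 (L u) (L v) (L w)]⟩

/-- the Hessian determinant `det (T v e_i e_j)` -/
noncomputable def hessFun (T : Tri) (v : V3) : ℂ :=
  Matrix.det (Matrix.of fun i j : Fin 3 => T v (Pi.single i 1) (Pi.single j 1))

lemma hessFun_smul (T : Tri) (c : ℂ) (v : V3) : hessFun (c • T) v = c ^ 3 * hessFun T v := by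
  unfold hessFun
  have : (Matrix.of fun i j : Fin 3 => (c • T) v (Pi.single i 1) (Pi.single j 1)) =
      c • (Matrix.of fun i j : Fin 3 => T v (Pi.single i 1) (Pi.single j 1)) := by
    ext i j; simp
  rw [this, Matrix.det_smul]
  simp

lemma hessFun_pull (T : Tri) (A : Matrix (Fin 3) (Fin 3) ℂ) (v : V3) :
    hessFun (pull T (Matrix.toLin' A)) v = A.det ^ 2 * hessFun T (A.mulVec v) := by
  unfold hessFun
  have : (Matrix.of fun i j : Fin 3 =>
      (pull T (Matrix.toLin' A)) v (Pi.single i 1) (Pi.single j 1)) =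
      A.transpose * (Matrix.of fun i j : Fin 3 =>
        T (A.mulVec v) (Pi.single i 1) (Pi.single j 1)) * A := by
    ext i j
    have hcol : ∀ i : Fin 3, A.mulVec (Pi.single i 1) = ∑ a, A a i • (Pi.single a 1 : V3) := by
      intro i
      ext b
      simp [Matrix.mulVec, dotProduct, Pi.single_apply, Finset.sum_apply]
    simp only [pull_apply, Matrix.toLin'_apply, Matrix.of_apply, Matrix.mul_apply,
      Matrix.transpose_apply]
    rw [hcol i, hcol j]
    simp only [map_sum, map_smul, LinearMap.sum_apply, LinearMap.smul_apply, smul_eq_mul]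
    apply Finset.sum_congr rfl
    intro b _
    rw [mul_comm]
  rw [this, Matrix.det_mul, Matrix.det_mul, Matrix.det_transpose]
  ring

end Groth.Agent.H21.Cubic

namespace Groth.Agent.H21.Cubic
open MvPolynomial

/-- the Fermat trilinear form `Σ xᵢ yᵢ zᵢ` -/
noncomputable def TF : Tri := mono3 0 0 0 + mono3 1 1 1 + mono3 2 2 2

/-- the trilinear form of `xyz` -/
noncomputable def TG : Tri :=
  (1 / 6 : ℂ) • (mono3 0 1 2 + mono3 0 2 1 + mono3 1 0 2 + mono3 1 2 0 + mono3 2 0 1 + mono3 2 1 0)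

def Ff (v : V3) : ℂ := v 0 ^ 3 + v 1 ^ 3 + v 2 ^ 3
def Gf (v : V3) : ℂ := v 0 * v 1 * v 2

lemma isSymm3_TF : IsSymm3 TF :=
  ⟨fun u v w => by simp [TF]; ring, fun u v w => by simp [TF]; ring⟩

lemma isSymm3_TG : IsSymm3 TG :=
  ⟨fun u v w => by simp [TG]; ring, fun u v w => by simp [TG]; ring⟩

lemma TF_cube (v : V3) : TF v v v = Ff v := by simp [TF, Ff]; ring
lemma TG_cube (v : V3) : TG v v v = Gf v := by simp [TG, Gf]; ring

/-- the pencil member `a F + b G` -/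
noncomputable def Tab (a b : ℂ) : Tri := a • TF + b • TG

lemma isSymm3_Tab (a b : ℂ) : IsSymm3 (Tab a b) :=
  (isSymm3_TF.smul a).add (isSymm3_TG.smul b)

lemma Tab_cube (a b : ℂ) (v : V3) : Tab a b v v v = a * Ff v + b * Gf v := by
  simp only [Tab, LinearMap.add_apply, LinearMap.smul_apply, TF_cube, TG_cube, smul_eq_mul]

lemma hessFun_Tab (a b : ℂ) (v : V3) :
    hessFun (Tab a b) v = (-(a * b ^ 2) / 36) * Ff v + (a ^ 3 + b ^ 3 / 108) * Gf v := by
  unfold hessFun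
  rw [Matrix.det_fin_three]
  simp [Tab, TF, TG, Ff, Gf, Pi.single_apply]
  ring

end Groth.Agent.H21.Cubic

namespace Groth.Agent.H21.Cubic
open MvPolynomial

lemma hess_step (A : Matrix (Fin 3) (Fin 3) ℂ) (hdet : A.det = 1) (a b c : ℂ)
    (h : ∀ v : V3, a * Ff (A.mulVec v) + b * Gf (A.mulVec v) = c * (a * Ff v + b * Gf v)) (v : V3) :
    (-(a * b ^ 2) / 36) * Ff (A.mulVec v) + (a ^ 3 + b ^ 3 / 108) * Gf (A.mulVec v) =
      c ^ 3 * ((-(a * b ^ 2) / 36) * Ff v + (a ^ 3 + b ^ 3 / 108) * Gf v) := by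
  have hpol : pull (Tab a b) (Matrix.toLin' A) = c • Tab a b := by
    apply polarization ((isSymm3_Tab a b).pull _) ((isSymm3_Tab a b).smul c)
    intro v
    rw [pull_apply, Matrix.toLin'_apply, Tab_cube, LinearMap.smul_apply, LinearMap.smul_apply,
      LinearMap.smul_apply, Tab_cube, smul_eq_mul]
    exact h v
  have := congrArg (fun T => hessFun T v) hpol
  simp only [hessFun_pull, hessFun_smul, hdet, one_pow, one_mul, hessFun_Tab] at this
  exact this

theorem pres_F_G_of_pres_hesse (k : ℂ) (hk0 : k ≠ 0) (hk1 : k ^ 3 ≠ 1) (hk8 : k ^ 3 + 8 ≠ 0)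
    (hk6 : k ^ 6 - 20 * k ^ 3 - 8 ≠ 0) (A : Matrix (Fin 3) (Fin 3) ℂ) (hdet : A.det = 1) (c : ℂ)
    (hA : ∀ v : V3, Ff (A.mulVec v) - 3 * k * Gf (A.mulVec v) = c * (Ff v - 3 * k * Gf v)) :
    (∀ v : V3, Ff (A.mulVec v) = c * Ff v) ∧ (∀ v : V3, Gf (A.mulVec v) = c * Gf v) := by
  obtain ⟨a1, ha1⟩ : ∃ a1 : ℂ, a1 = -(1 * (-3 * k) ^ 2) / 36 := ⟨_, rfl⟩
  obtain ⟨b1, hb1⟩ : ∃ b1 : ℂ, b1 = 1 ^ 3 + (-3 * k) ^ 3 / 108 := ⟨_, rfl⟩
  obtain ⟨a2, ha2⟩ : ∃ a2 : ℂ, a2 = -(a1 * b1 ^ 2) / 36 := ⟨_, rfl⟩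
  obtain ⟨b2, hb2⟩ : ∃ b2 : ℂ, b2 = a1 ^ 3 + b1 ^ 3 / 108 := ⟨_, rfl⟩
  have e0 : ∀ v : V3, 1 * Ff (A.mulVec v) + (-3 * k) * Gf (A.mulVec v) =
      c * (1 * Ff v + (-3 * k) * Gf v) := by
    intro v; linear_combination hA v
  have e1 : ∀ v : V3, a1 * Ff (A.mulVec v) + b1 * Gf (A.mulVec v) =
      c ^ 3 * (a1 * Ff v + b1 * Gf v) := by
    intro v
    rw [ha1, hb1]
    exact hess_step A hdet 1 (-3 * k) c e0 v
  have e2 : ∀ v : V3, a2 * Ff (A.mulVec v) + b2 * Gf (A.mulVec v) =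
      (c ^ 3) ^ 3 * (a2 * Ff v + b2 * Gf v) := by
    intro v
    rw [ha2, hb2]
    exact hess_step A hdet a1 b1 (c ^ 3) e1 v
  -- determinants
  have hD1 : b1 + 3 * k * a1 = 1 - k ^ 3 := by rw [ha1, hb1]; ring
  have hD1' : b1 + 3 * k * a1 ≠ 0 := by
    rw [hD1]; intro h; apply hk1; linear_combination -h
  have hD2 : b2 + 3 * k * a2 = (k ^ 3 - 1) * (k ^ 6 - 20 * k ^ 3 - 8) / 864 := by
    rw [hb2, ha2, ha1, hb1]; ring
  have hD3 : a1 * b2 - a2 * b1 = k ^ 2 * (k ^ 3 - 1) * (k ^ 3 + 8) ^ 2 / 6912 := by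
    rw [hb2, ha2, ha1, hb1]; ring
  have hk1' : k ^ 3 - 1 ≠ 0 := sub_ne_zero.mpr hk1
  have hD2' : b2 + 3 * k * a2 ≠ 0 := by
    rw [hD2]
    exact div_ne_zero (mul_ne_zero hk1' hk6) (by norm_num)
  have hD3' : a1 * b2 - a2 * b1 ≠ 0 := by
    rw [hD3]
    exact div_ne_zero (mul_ne_zero (mul_ne_zero (pow_ne_zero _ hk0) hk1') (pow_ne_zero _ hk8))
      (by norm_num)
  -- evaluate at two points
  have p1 := e0 ![1, 0, 0]
  have q1 := e1 ![1, 0, 0]
  have r1 := e2 ![1, 0, 0]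
  have p2 := e0 ![1, 1, 1]
  have q2 := e1 ![1, 1, 1]
  have r2 := e2 ![1, 1, 1]
  have hF1 : Ff ![1, 0, 0] = 1 := by simp [Ff]
  have hG1 : Gf ![1, 0, 0] = 0 := by simp [Gf]
  have hF2 : Ff ![1, 1, 1] = 3 := by simp [Ff]; norm_num
  have hG2 : Gf ![1, 1, 1] = 1 := by simp [Gf]
  rw [hF1, hG1] at p1 q1 r1
  rw [hF2, hG2] at p2 q2 r2
  have hα : -c * (a1 * b2 - a2 * b1) + c ^ 3 * a1 * (b2 + 3 * k * a2)
      - (c ^ 3) ^ 3 * a2 * (b1 + 3 * k * a1) = 0 := by
    linear_combination (a1 * b2 - a2 * b1) * p1 - (b2 + 3 * k * a2) * q1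
      + (b1 + 3 * k * a1) * r1
  have hγ : -c * (3 - 3 * k) * (a1 * b2 - a2 * b1) + c ^ 3 * (3 * a1 + b1) * (b2 + 3 * k * a2)
      - (c ^ 3) ^ 3 * (3 * a2 + b2) * (b1 + 3 * k * a1) = 0 := by
    linear_combination (a1 * b2 - a2 * b1) * p2 - (b2 + 3 * k * a2) * q2
      + (b1 + 3 * k * a1) * r2
  have hβ : 3 * k * c * (a1 * b2 - a2 * b1) + c ^ 3 * b1 * (b2 + 3 * k * a2)
      - (c ^ 3) ^ 3 * b2 * (b1 + 3 * k * a1) = 0 := by
    linear_combination hγ - 3 * hα
  have h39 : c ^ 3 = (c ^ 3) ^ 3 := by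
    have : (b1 + 3 * k * a1) * (b2 + 3 * k * a2) * (c ^ 3 - (c ^ 3) ^ 3) = 0 := by
      linear_combination 3 * k * hα + hβ
    have := (mul_eq_zero.mp this).resolve_left (mul_ne_zero hD1' hD2')
    linear_combination this
  have h19 : c = (c ^ 3) ^ 3 := by
    have : (b1 + 3 * k * a1) * (a1 * b2 - a2 * b1) * ((c ^ 3) ^ 3 - c) = 0 := by
      linear_combination b1 * hα - a1 * hβ
    have := (mul_eq_zero.mp this).resolve_left (mul_ne_zero hD1' hD3')
    linear_combination -this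
  have h13 : c ^ 3 = c := by rw [h39, ← h19]
  rw [h13] at e1
  constructor
  · intro v
    have : (b1 + 3 * k * a1) * (Ff (A.mulVec v) - c * Ff v) = 0 := by
      linear_combination b1 * e0 v + 3 * k * e1 v
    have := (mul_eq_zero.mp this).resolve_left hD1'
    linear_combination this
  · intro v
    have : (b1 + 3 * k * a1) * (Gf (A.mulVec v) - c * Gf v) = 0 := by
      linear_combination (-a1) * e0 v + e1 v
    have := (mul_eq_zero.mp this).resolve_left hD1'
    linear_combination this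

end Groth.Agent.H21.Cubic

namespace Groth.Agent.H21.Cubic
open MvPolynomial

/-- three affine-linear forms in one variable with identically vanishing product -/
lemma exists_zero_form (α β : Fin 3 → ℂ) (h : ∀ t : ℂ, ∏ i, (α i + β i * t) = 0) :
    ∃ i, α i = 0 ∧ β i = 0 := by
  have hP : ∏ i : Fin 3, (Polynomial.C (α i) + Polynomial.C (β i) * Polynomial.X) = 0 := by
    apply Polynomial.funext
    intro t
    rw [Polynomial.eval_prod]
    simpa using h t
  rw [Finset.prod_eq_zero_iff] at hP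
  obtain ⟨i, -, hi⟩ := hP
  refine ⟨i, ?_, ?_⟩
  · have := congrArg (fun p => Polynomial.coeff p 0) hi
    simpa using this
  · have := congrArg (fun p => Polynomial.coeff p 1) hi
    simpa using this

lemma Gf_mulVec (A : Matrix (Fin 3) (Fin 3) ℂ) (ξ : V3) :
    Gf (A.mulVec ξ) = ∏ i : Fin 3, ∑ j : Fin 3, A i j * ξ j := by
  simp [Gf, Matrix.mulVec, dotProduct, Fin.prod_univ_three]

/-- if `A` preserves `xyz` up to scalar, each column index has a row supported on it -/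
lemma exists_row_supported (A : Matrix (Fin 3) (Fin 3) ℂ) (c : ℂ)
    (hG : ∀ v : V3, Gf (A.mulVec v) = c * Gf v) (j : Fin 3) :
    ∃ i : Fin 3, ∀ j' : Fin 3, j' ≠ j → A i j' = 0 := by
  have h := exists_zero_form (fun i => A i (j + 1)) (fun i => A i (j + 2)) (by
    intro t
    have := hG (Pi.single (j + 1) 1 + t • Pi.single (j + 2) 1)
    rw [Gf_mulVec] at this
    have hz : Gf (Pi.single (j + 1) 1 + t • Pi.single (j + 2) 1 : V3) = 0 := by
      fin_cases j <;> simp [Gf, Pi.single_apply]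
    rw [hz, mul_zero] at this
    rw [← this]
    apply Finset.prod_congr rfl
    intro i _
    fin_cases j <;> simp [Fin.sum_univ_three, Pi.single_apply] <;> ring)
  obtain ⟨i, h1, h2⟩ := h
  refine ⟨i, ?_⟩
  intro j' hj'
  have : j' = j + 1 ∨ j' = j + 2 := by
    fin_cases j <;> fin_cases j' <;> simp_all
  rcases this with rfl | rfl
  · exact h1
  · exact h2

end Groth.Agent.H21.Cubic
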