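import Mathlib
import Groth.Agent.H21.Cubic.HessCov
open MvPolynomial

namespace Groth.Agent.H21.Cubic

/-- monomial matrix: row `r` has entry `d r` in column `π r` -/
def monoMat (π : Equiv.Perm (Fin 3)) (d : Fin 3 → ℂ) : Matrix (Fin 3) (Fin 3) ℂ :=
  Matrix.of fun r c => if c = π r then d r else 0

lemma monoMat_mulVec (π : Equiv.Perm (Fin 3)) (d : Fin 3 → ℂ) (ξ : V3) (r : Fin 3) :
    (monoMat π d).mulVec ξ r = d r * ξ (π r) := by
  simp [monoMat, Matrix.mulVec, dotProduct]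

lemma monoMat_eq (π : Equiv.Perm (Fin 3)) (d : Fin 3 → ℂ) :
    monoMat π d = Matrix.diagonal d * π.permMatrix ℂ := by
  ext r c
  simp [monoMat, Matrix.diagonal_mul, Equiv.Perm.permMatrix, PEquiv.toMatrix_apply,
    Equiv.toPEquiv_apply, eq_comm]

lemma det_monoMat (π : Equiv.Perm (Fin 3)) (d : Fin 3 → ℂ) :
    (monoMat π d).det = (∏ r, d r) * (Equiv.Perm.sign π : ℤ) := by
  rw [monoMat_eq, Matrix.det_mul, Matrix.det_diagonal, Matrix.det_permutation]

lemma Gf_monoMat (π : Equiv.Perm (Fin 3)) (d : Fin 3 → ℂ) (ξ : V3) :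
    Gf ((monoMat π d).mulVec ξ) = (∏ r, d r) * Gf ξ := by
  have h1 : Gf ((monoMat π d).mulVec ξ) = ∏ r, (d r * ξ (π r)) := by
    simp only [Gf, monoMat_mulVec, Fin.prod_univ_three]
  have h2 : Gf ξ = ∏ r, ξ r := by simp only [Gf, Fin.prod_univ_three]
  rw [h1, h2, Finset.prod_mul_distrib, Equiv.prod_comp π ξ]

lemma Ff_monoMat (π : Equiv.Perm (Fin 3)) (d : Fin 3 → ℂ) (ξ : V3) :
    Ff ((monoMat π d).mulVec ξ) = ∑ r, d r ^ 3 * ξ (π r) ^ 3 := by
  simp only [Ff, monoMat_mulVec, Fin.sum_univ_three, mul_pow]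

/-- an invertible matrix preserving `xyz` up to scalar is monomial -/
lemma exists_monoMat_eq (A : Matrix (Fin 3) (Fin 3) ℂ) (hdet : A.det ≠ 0) (c : ℂ)
    (hG : ∀ v : V3, Gf (A.mulVec v) = c * Gf v) :
    ∃ (π : Equiv.Perm (Fin 3)) (d : Fin 3 → ℂ), A = monoMat π d := by
  choose i hi using exists_row_supported A c hG
  have hinj : Function.Injective i := by
    intro j j' hjj
    by_contra hne
    apply hdet
    apply Matrix.det_eq_zero_of_row_eq_zero (i j)
    intro c'
    by_cases hc : c' = j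
    · subst hc
      rw [hjj]
      exact hi j' c' hne
    · exact hi j c' hc
  have hbij : Function.Bijective i := Finite.injective_iff_bijective.mp hinj
  obtain ⟨ι, hι⟩ : ∃ ι : Equiv.Perm (Fin 3), ∀ j, ι j = i j :=
    ⟨Equiv.ofBijective i hbij, fun j => rfl⟩
  refine ⟨ι.symm, fun r => A r (ι.symm r), ?_⟩
  ext r c'
  simp only [monoMat, Matrix.of_apply]
  split_ifs with h
  · rw [h]
  · have hr : r = i (ι.symm r) := by rw [← hι, Equiv.apply_symm_apply]
    have := hi (ι.symm r) c' h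
    rw [← hr] at this
    exact this

end Groth.Agent.H21.Cubic

namespace Groth.Agent.H21.Cubic
open MvPolynomial

/-- the group of determinant-one matrices preserving `x³+y³+z³` and `xyz` up to a common scalar -/
def InG0 (A : Matrix (Fin 3) (Fin 3) ℂ) : Prop :=
  A.det = 1 ∧ ∃ c : ℂ, (∀ v : V3, Ff (A.mulVec v) = c * Ff v) ∧
    (∀ v : V3, Gf (A.mulVec v) = c * Gf v)

def expo (i j : Fin 3) : Fin 3 → ℕ := ![i.val, j.val, 2 * i.val + 2 * j.val]

lemma expo_zero (i j : Fin 3) : expo i j 0 = i.val := rfl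
lemma expo_one (i j : Fin 3) : expo i j 1 = j.val := rfl
lemma expo_two (i j : Fin 3) : expo i j 2 = 2 * i.val + 2 * j.val := rfl

/-- sign of a permutation as a complex number -/
def sgnC (π : Equiv.Perm (Fin 3)) : ℂ := ((Equiv.Perm.sign π : ℤˣ) : ℤ)

lemma sgnC_sq (π : Equiv.Perm (Fin 3)) : sgnC π ^ 2 = 1 := by
  unfold sgnC
  rcases Int.units_eq_one_or (Equiv.Perm.sign π) with h | h <;> rw [h] <;> simp

noncomputable def mat54 (ω : ℂ) (x : Equiv.Perm (Fin 3) × Fin 3 × Fin 3) :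
    Matrix (Fin 3) (Fin 3) ℂ :=
  monoMat x.1 (fun r => sgnC x.1 * ω ^ (expo x.2.1 x.2.2 r))

lemma cube_root_cases (ω : ℂ) (hω : ω ^ 2 + ω + 1 = 0) (x : ℂ) (hx : x ^ 3 = 1) :
    ∃ e : Fin 3, x = ω ^ e.val := by
  have h : (x - 1) * ((x - ω) * (x - ω ^ 2)) = 0 := by
    linear_combination hx + (x - 1) * (ω - 1 - x) * hω
  rcases mul_eq_zero.mp h with h | h
  · exact ⟨0, by simp; linear_combination h⟩
  · rcases mul_eq_zero.mp h with h | h
    · exact ⟨1, by simp; linear_combination h⟩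
    · exact ⟨2, by simp; linear_combination h⟩

lemma omega_pow_inj (ω : ℂ) (hω : ω ^ 2 + ω + 1 = 0) (i i' : Fin 3)
    (h : ω ^ i.val = ω ^ i'.val) : i = i' := by
  have h1 : ω ≠ 1 := by
    rintro rfl; norm_num at hω
  have h0 : ω ≠ 0 := by
    rintro rfl; norm_num at hω
  have h2 : ω ^ 2 ≠ 1 := by
    intro h2
    have : ω = -2 := by linear_combination hω - h2
    rw [this] at hω; norm_num at hω
  have h3 : ω ^ 2 ≠ ω := by
    intro h3
    have : ω * (ω - 1) = 0 := by linear_combination h3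
    rcases mul_eq_zero.mp this with h | h
    · exact h0 h
    · exact h1 (by linear_combination h)
  rcases i with ⟨i, hi⟩
  rcases i' with ⟨i', hi'⟩
  change ω ^ i = ω ^ i' at h
  rw [Fin.mk.injEq]
  interval_cases i <;> interval_cases i' <;> simp only [pow_zero, pow_one] at h
  · rfl
  · exact absurd h.symm h1
  · exact absurd h.symm h2
  · exact absurd h h1
  · rfl
  · exact absurd h.symm h3
  · exact absurd h h2
  · exact absurd h h3
  · rfl

end Groth.Agent.H21.Cubic

namespace Groth.Agent.H21.Cubic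
open MvPolynomial

lemma mat54_mem (ω : ℂ) (hω : ω ^ 2 + ω + 1 = 0) (x : Equiv.Perm (Fin 3) × Fin 3 × Fin 3) :
    InG0 (mat54 ω x) := by
  obtain ⟨π, i, j⟩ := x
  have hω3 : ω ^ 3 = 1 := by linear_combination (ω - 1) * hω
  have hs := sgnC_sq π
  have hpow : ∀ n : ℕ, ω ^ (3 * n) = 1 := by
    intro n; rw [pow_mul, hω3, one_pow]
  have hd3 : ∀ r, (sgnC π * ω ^ (expo i j r)) ^ 3 = sgnC π := by
    intro r
    rw [mul_pow, ← pow_mul, mul_comm (expo i j r) 3, hpow, mul_one]
    linear_combination sgnC π * hs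
  have hprod : ∏ r, (sgnC π * ω ^ (expo i j r)) = sgnC π := by
    rw [Fin.prod_univ_three]
    rw [expo_zero, expo_one, expo_two]
    have : ω ^ (i : ℕ) * ω ^ (j : ℕ) * ω ^ (2 * (i : ℕ) + 2 * (j : ℕ)) = 1 := by
      rw [← pow_add, ← pow_add]
      have : (i : ℕ) + j + (2 * i + 2 * j) = 3 * (i + j) := by ring
      rw [this, hpow]
    linear_combination sgnC π ^ 3 * this + sgnC π * hs
  refine ⟨?_, sgnC π, ?_, ?_⟩
  · unfold mat54
    rw [det_monoMat, hprod]
    unfold sgnC at hs ⊢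
    linear_combination hs
  · intro v
    unfold mat54
    rw [Ff_monoMat]
    simp only [hd3]
    rw [← Finset.mul_sum, Equiv.sum_comp π (fun r => v r ^ 3)]
    simp only [Ff, Fin.sum_univ_three]
  · intro v
    unfold mat54
    rw [Gf_monoMat, hprod]

lemma mat54_injective (ω : ℂ) (hω : ω ^ 2 + ω + 1 = 0) : Function.Injective (mat54 ω) := by
  rintro ⟨π, i, j⟩ ⟨π', i', j'⟩ h
  have h0 : ω ≠ 0 := by
    rintro rfl; norm_num at hω
  have hs : ∀ σ : Equiv.Perm (Fin 3), sgnC σ ≠ 0 := by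
    intro σ hσ
    have := sgnC_sq σ
    rw [hσ] at this
    norm_num at this
  have hd : ∀ (σ : Equiv.Perm (Fin 3)) (a b : Fin 3) (r : Fin 3),
      sgnC σ * ω ^ (expo a b r) ≠ 0 := fun σ a b r => mul_ne_zero (hs σ) (pow_ne_zero _ h0)
  have hπ : π = π' := by
    ext r
    have := congrFun (congrFun h r) (π r)
    simp only [mat54, monoMat, Matrix.of_apply, if_true] at this
    by_contra hne
    rw [if_neg (fun h' => hne (by rw [h']))] at this
    exact hd π i j r this
  subst hπ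
  have hentry : ∀ r, sgnC π * ω ^ (expo i j r) = sgnC π * ω ^ (expo i' j' r) := by
    intro r
    have := congrFun (congrFun h r) (π r)
    simpa only [mat54, monoMat, Matrix.of_apply, if_true] using this
  have e0 := mul_left_cancel₀ (hs π) (hentry 0)
  have e1 := mul_left_cancel₀ (hs π) (hentry 1)
  rw [expo_zero, expo_zero] at e0
  rw [expo_one, expo_one] at e1
  rw [omega_pow_inj ω hω i i' e0, omega_pow_inj ω hω j j' e1]

end Groth.Agent.H21.Cubic

namespace Groth.Agent.H21.Cubic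
open MvPolynomial

lemma exists_mat54_eq (ω : ℂ) (hω : ω ^ 2 + ω + 1 = 0) (A : Matrix (Fin 3) (Fin 3) ℂ)
    (hA : InG0 A) : ∃ x, mat54 ω x = A := by
  obtain ⟨hdet, c, hF, hG⟩ := hA
  have hω3 : ω ^ 3 = 1 := by linear_combination (ω - 1) * hω
  have h0 : ω ≠ 0 := by
    rintro rfl; norm_num at hω
  obtain ⟨π, d, rfl⟩ := exists_monoMat_eq A (by rw [hdet]; exact one_ne_zero) c hG
  have hs := sgnC_sq π
  -- the conditions
  have hprod : ∏ r, d r = c := by
    have := hG ![1, 1, 1]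
    rw [Gf_monoMat] at this
    have h1 : Gf ![1, 1, 1] = 1 := by simp [Gf]
    rw [h1, mul_one, mul_one] at this
    exact this
  have hcs : c * sgnC π = 1 := by
    rw [det_monoMat, hprod] at hdet
    exact hdet
  have hc : c = sgnC π := by
    linear_combination sgnC π * hcs - c * hs
  have hd3 : ∀ r, d r ^ 3 = c := by
    intro r
    have := hF (Pi.single (π r) 1)
    rw [Ff_monoMat] at this
    have h1 : Ff (Pi.single (π r) 1 : V3) = 1 := by
      have : ∀ a : Fin 3, Ff (Pi.single a 1 : V3) = 1 := by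
        intro a; fin_cases a <;> simp [Ff]
      exact this _
    rw [h1, mul_one] at this
    rw [← this, Finset.sum_eq_single r]
    · simp
    · intro b _ hb
      have : π b ≠ π r := fun h => hb (π.injective h)
      simp [this]
    · intro h; exact absurd (Finset.mem_univ r) h
  have hroot : ∀ r, ∃ e : Fin 3, d r = sgnC π * ω ^ e.val := by
    intro r
    obtain ⟨e, he⟩ := cube_root_cases ω hω (d r * sgnC π) (by
      rw [mul_pow, hd3 r, hc]
      linear_combination (sgnC π ^ 2 + 1) * hs)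
    refine ⟨e, ?_⟩
    rw [← he]
    linear_combination (-d r) * hs
  choose e he using hroot
  refine ⟨(π, e 0, e 1), ?_⟩
  unfold mat54
  congr 1
  funext r
  have hsum : ω ^ ((e 0 : ℕ) + (e 1 : ℕ) + (e 2 : ℕ)) = 1 := by
    have := hprod
    rw [Fin.prod_univ_three, he 0, he 1, he 2, hc] at this
    have hs0 : sgnC π ≠ 0 := by
      intro h; rw [h] at hs; norm_num at hs
    have h3 : sgnC π ^ 3 = sgnC π := by linear_combination sgnC π * hs
    have : sgnC π * (ω ^ ((e 0 : ℕ) + (e 1 : ℕ) + (e 2 : ℕ)) - 1) = 0 := by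
      rw [pow_add, pow_add]
      linear_combination this - (ω ^ (e 0 : ℕ) * ω ^ (e 1 : ℕ) * ω ^ (e 2 : ℕ)) * h3
    have := (mul_eq_zero.mp this).resolve_left hs0
    linear_combination this
  have h2 : ω ^ (e 2 : ℕ) = ω ^ (2 * (e 0 : ℕ) + 2 * (e 1 : ℕ)) := by
    have hne : ω ^ ((e 0 : ℕ) + (e 1 : ℕ)) ≠ 0 := pow_ne_zero _ h0
    apply mul_left_cancel₀ hne
    rw [← pow_add, ← pow_add]
    have e1 : (e 0 : ℕ) + (e 1 : ℕ) + (2 * (e 0 : ℕ) + 2 * (e 1 : ℕ)) = 3 * ((e 0 : ℕ) + e 1) := by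
      ring
    rw [hsum, e1, pow_mul, hω3, one_pow]
  fin_cases r
  · show sgnC π * ω ^ (expo (e 0) (e 1) 0) = d 0
    rw [expo_zero, he 0]
  · show sgnC π * ω ^ (expo (e 0) (e 1) 1) = d 1
    rw [expo_one, he 1]
  · show sgnC π * ω ^ (expo (e 0) (e 1) 2) = d 2
    rw [expo_two, he 2, h2]

end Groth.Agent.H21.Cubic

namespace Groth.Agent.H21.Cubic
open MvPolynomial

theorem card_G0 : Nat.card {A : Matrix (Fin 3) (Fin 3) ℂ // InG0 A} = 54 := by
  obtain ⟨ω, hω⟩ := exists_omega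
  have hbij : Function.Bijective
      (fun x : Equiv.Perm (Fin 3) × Fin 3 × Fin 3 =>
        (⟨mat54 ω x, mat54_mem ω hω x⟩ : {A : Matrix (Fin 3) (Fin 3) ℂ // InG0 A})) := by
    constructor
    · intro x y h
      exact mat54_injective ω hω (congrArg Subtype.val h)
    · rintro ⟨A, hA⟩
      obtain ⟨x, hx⟩ := exists_mat54_eq ω hω A hA
      exact ⟨x, Subtype.ext hx⟩
  rw [← Nat.card_congr (Equiv.ofBijective _ hbij), Nat.card_eq_fintype_card]
  simp [Fintype.card_prod, Fintype.card_perm]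
  rfl

lemma hesse_eval' (k : ℂ) (v : V3) : eval v (HesseCubic.form k) = Ff v - 3 * k * Gf v := by
  rw [hesse_eval]; rfl

/-- the generic Hesse cubic has exactly 54 determinant-one linear automorphisms -/
theorem card_aut_hesse :
    ∃ T : Finset ℂ, ∀ k : ℂ, k ∉ T →
      Nat.card {A : Matrix (Fin 3) (Fin 3) ℂ // A.det = 1 ∧
        ∃ c : ℂ, aeval (fun i : Fin 3 => ∑ j : Fin 3, C (A i j) * X j) (HesseCubic.form k) =
          C c * HesseCubic.form k} = 54 := by
  classical
  obtain ⟨P, hP⟩ : ∃ P : Polynomial ℂ, P = Polynomial.X * (Polynomial.X ^ 3 - 1) *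
      (Polynomial.X ^ 3 + 8) * (Polynomial.X ^ 6 - 20 * Polynomial.X ^ 3 - 8) := ⟨_, rfl⟩
  have hP0 : P ≠ 0 := by
    intro h
    have := congrArg (Polynomial.eval 2) h
    rw [hP] at this
    simp at this
    norm_num at this
  refine ⟨P.roots.toFinset, ?_⟩
  intro k hk
  rw [Multiset.mem_toFinset, Polynomial.mem_roots hP0, Polynomial.IsRoot.def, hP] at hk
  simp only [Polynomial.eval_mul, Polynomial.eval_sub, Polynomial.eval_add, Polynomial.eval_pow,
    Polynomial.eval_X, Polynomial.eval_one, Polynomial.eval_ofNat] at hk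
  have hk0 : k ≠ 0 := by
    rintro rfl; apply hk; ring
  have hk1 : k ^ 3 ≠ 1 := by
    intro h; apply hk; rw [h]; ring
  have hk8 : k ^ 3 + 8 ≠ 0 := by
    intro h; apply hk; rw [h]; ring
  have hk6 : k ^ 6 - 20 * k ^ 3 - 8 ≠ 0 := by
    intro h; apply hk; rw [h]; ring
  rw [← card_G0]
  apply Nat.card_congr
  apply Equiv.subtypeEquivRight
  intro A
  constructor
  · rintro ⟨hdet, c, hc⟩
    rw [aeval_linear_eq_iff'] at hc
    obtain ⟨hF, hG⟩ := pres_F_G_of_pres_hesse k hk0 hk1 hk8 hk6 A hdet c (by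
      intro v
      have := hc v
      rw [hesse_eval', hesse_eval'] at this
      exact this)
    exact ⟨hdet, c, hF, hG⟩
  · rintro ⟨hdet, c, hF, hG⟩
    refine ⟨hdet, c, ?_⟩
    rw [aeval_linear_eq_iff']
    intro v
    rw [hesse_eval', hesse_eval', hF, hG]
    ring

end Groth.Agent.H21.Cubic
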