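import Mathlib
import Groth.Agent.H21.Cubic.LinAlg
open MvPolynomial

namespace Groth.Agent.H21.Cubic

abbrev V4 := Fin 4 → ℂ

/-- Eckardt point predicate (as in the statements) -/
def IsEck (f : MvPolynomial (Fin 4) ℂ) (e : V4) : Prop :=
  ∃ U : Fin 3 → Submodule ℂ (Fin 4 → ℂ), Function.Injective U ∧
    ∀ i : Fin 3, Module.finrank ℂ ↥(U i) = 2 ∧ e ∈ U i ∧ ∀ u ∈ U i, eval u f = 0

/-- smoothness predicate (as in the statements) -/
def Smooth (f : MvPolynomial (Fin 4) ℂ) : Prop :=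
  ∀ v : Fin 4 → ℂ, v ≠ 0 → eval v f = 0 → ∃ i : Fin 4, eval v (pderiv i f) ≠ 0

variable {f : MvPolynomial (Fin 4) ℂ} {T : V4 →ₗ[ℂ] V4 →ₗ[ℂ] V4 →ₗ[ℂ] ℂ}

lemma Rep.line_vanish (hT : Rep f T) (U : Submodule ℂ V4) (hU : ∀ u ∈ U, eval u f = 0)
    {x y : V4} (hx : x ∈ U) (hy : y ∈ U) : T x x y = 0 ∧ T x y y = 0 := by
  have h : ∀ s : ℂ, T x x x + (3 * T x x y) * s + (3 * T x y y) * s ^ 2 + T y y y * s ^ 3 = 0 := by
    intro s
    have h1 := hU (x + s • y) (U.add_mem hx (U.smul_mem s hy))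
    rw [hT.eval_eq, hT.cube_add_smul] at h1
    rw [← h1]; ring
  obtain ⟨-, h1, h2, -⟩ := cubic_coeffs_zero _ _ _ _ h
  have h3 : (3 : ℂ) ≠ 0 := by norm_num
  exact ⟨(mul_eq_zero.mp h1).resolve_left h3, (mul_eq_zero.mp h2).resolve_left h3⟩

lemma Rep.tangent_ne_zero (hT : Rep f T) (hsm : Smooth f) {e : V4} (he : e ≠ 0)
    (hFe : eval e f = 0) : T e e ≠ 0 := by
  obtain ⟨w, hw⟩ := (hT.smooth_iff e).mp (hsm e he hFe)
  intro h
  apply hw
  rw [hT.wuu e w, h]
  rfl

lemma bilin_vanish_span3 (B : V4 →ₗ[ℂ] V4 →ₗ[ℂ] ℂ) (hB : ∀ x y, B x y = B y x) (e u w : V4)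
    (h1 : B e e = 0) (h2 : B e u = 0) (h3 : B e w = 0) (h4 : B u u = 0) (h5 : B w w = 0)
    (h6 : B u w = 0) {x y : V4} (hx : x ∈ Submodule.span ℂ {e, u, w})
    (hy : y ∈ Submodule.span ℂ {e, u, w}) : B x y = 0 := by
  rw [Submodule.mem_span_triple] at hx hy
  obtain ⟨a, b, c, rfl⟩ := hx
  obtain ⟨a', b', c', rfl⟩ := hy
  simp only [map_add, map_smul, LinearMap.add_apply, LinearMap.smul_apply, smul_eq_mul,
    hB u e, hB w e, hB w u, h1, h2, h3, h4, h5, h6]
  ring

theorem Rep.eckardt_lambda (hT : Rep f T) (hsm : Smooth f) {e : V4} (he : e ≠ 0)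
    (hE : IsEck f e) :
    ∃ lam : V4 →ₗ[ℂ] ℂ, lam e = 1 ∧ ∀ v, T e v v = 2 * lam v * T e e v := by
  obtain ⟨U, hinj, hU⟩ := hE
  have hFe : eval e f = 0 := (hU 0).2.2 e (hU 0).2.1
  have hl := hT.tangent_ne_zero hsm he hFe
  -- choose points on the three lines
  have hex : ∀ i, ∃ u ∈ U i, u ∉ Submodule.span ℂ {e} ∧ U i = Submodule.span ℂ {e, u} :=
    fun i => exists_span_pair (U i) (hU i).1 e he (hU i).2.1
  choose u huU hue hUspan using hex
  have hlu : ∀ i, T e e (u i) = 0 ∧ T e (u i) (u i) = 0 :=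
    fun i => hT.line_vanish (U i) (hU i).2.2 (hU i).2.1 (huU i)
  have hle : T e e e = 0 := by rw [← hT.eval_eq]; exact hFe
  have hnot : ∀ i j, i ≠ j → u j ∉ Submodule.span ℂ {e, u i} := by
    intro i j hij hmem
    apply hij
    apply hinj
    symm
    apply Submodule.eq_of_le_of_finrank_eq
    · rw [hUspan j, Submodule.span_le]
      rintro x (rfl | rfl)
      · exact (hU i).2.1
      · rw [hUspan i]; exact hmem
    · rw [(hU i).1, (hU j).1]
  have hV : Module.finrank ℂ V4 = 4 := by simp [V4]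
  have hker : LinearMap.ker (T e e) = Submodule.span ℂ {e, u 0, u 1} :=
    ker_eq_span_triple hV (T e e) hl he (hue 0) (hnot 0 1 (by decide)) hle (hlu 0).1 (hlu 1).1
  -- the third point
  have hu2 : u 2 ∈ Submodule.span ℂ {e, u 0, u 1} := by
    rw [← hker]; exact (hlu 2).1
  rw [Submodule.mem_span_triple] at hu2
  obtain ⟨a, b, c, habc⟩ := hu2
  have hb : b ≠ 0 := by
    rintro rfl
    apply hnot 1 2 (by decide)
    rw [← habc, zero_smul, add_zero]
    exact Submodule.add_mem _ (Submodule.smul_mem _ _ (Submodule.subset_span (by simp)))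
      (Submodule.smul_mem _ _ (Submodule.subset_span (by simp)))
  have hc : c ≠ 0 := by
    rintro rfl
    apply hnot 0 2 (by decide)
    rw [← habc, zero_smul, add_zero]
    exact Submodule.add_mem _ (Submodule.smul_mem _ _ (Submodule.subset_span (by simp)))
      (Submodule.smul_mem _ _ (Submodule.subset_span (by simp)))
  have hB : ∀ x y, T e x y = T e y x := fun x y => hT.symm23 e x y
  have h01 : T e (u 0) (u 1) = 0 := by
    have h2 := (hlu 2).2
    rw [← habc] at h2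
    simp only [map_add, map_smul, LinearMap.add_apply, LinearMap.smul_apply, smul_eq_mul,
      hB (u 0) e, hB (u 1) e, hB (u 1) (u 0), hle, (hlu 0).1, (hlu 1).1, (hlu 0).2, (hlu 1).2] at h2
    have : 2 * b * c * T e (u 0) (u 1) = 0 := by rw [← h2]; ring
    have h2' : (2 : ℂ) ≠ 0 := by norm_num
    exact (mul_eq_zero.mp this).resolve_left (mul_ne_zero (mul_ne_zero h2' hb) hc)
  have hvan : ∀ x y, T e e x = 0 → T e e y = 0 → T e x y = 0 := by
    intro x y hx hy
    have hx' : x ∈ Submodule.span ℂ {e, u 0, u 1} := by rw [← hker]; exact hx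
    have hy' : y ∈ Submodule.span ℂ {e, u 0, u 1} := by rw [← hker]; exact hy
    exact bilin_vanish_span3 (T e) hB e (u 0) (u 1) hle (hlu 0).1 (hlu 1).1 (hlu 0).2 (hlu 1).2 h01
      hx' hy'
  -- choose a normal vector
  obtain ⟨n0, hn0⟩ : ∃ n0, T e e n0 ≠ 0 := by
    by_contra hcon
    push Not at hcon
    exact hl (LinearMap.ext hcon)
  obtain ⟨nn, hn1⟩ : ∃ nn : V4, T e e nn = 1 :=
    ⟨(T e e n0)⁻¹ • n0, by rw [map_smul, smul_eq_mul, inv_mul_cancel₀ hn0]⟩
  refine ⟨(T e).flip nn - ((1 / 2 : ℂ) * T e nn nn) • T e e, ?_, ?_⟩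
  · simp only [LinearMap.sub_apply, LinearMap.flip_apply, LinearMap.smul_apply, smul_eq_mul, hle,
      mul_zero, sub_zero, hn1]
  · intro v
    simp only [LinearMap.sub_apply, LinearMap.flip_apply, LinearMap.smul_apply, smul_eq_mul]
    obtain ⟨x, hx⟩ : ∃ x : V4, x = v - (T e e v) • nn := ⟨_, rfl⟩
    have hxk : T e e x = 0 := by
      rw [hx, map_sub, map_smul, smul_eq_mul, hn1, mul_one, sub_self]
    have hxx := hvan x x hxk hxk
    have hv : v = x + (T e e v) • nn := by rw [hx]; abel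
    have hxn : T e x nn = T e v nn - T e e v * T e nn nn := by
      rw [hx, map_sub, map_smul, LinearMap.sub_apply, LinearMap.smul_apply, smul_eq_mul]
    have : T e v v = T e x x + 2 * (T e e v) * T e x nn + (T e e v) ^ 2 * T e nn nn := by
      conv_lhs => rw [hv]
      simp only [map_add, map_smul, LinearMap.add_apply, LinearMap.smul_apply, smul_eq_mul,
        hB nn x]
      ring
    rw [this, hxx, hxn]
    ring

end Groth.Agent.H21.Cubic
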