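import Mathlib
import Groth.Agent.H21.Cubic.Eck1
open MvPolynomial

namespace Groth.Agent.H21.Cubic

variable {f : MvPolynomial (Fin 4) ℂ} {T : V4 →ₗ[ℂ] V4 →ₗ[ℂ] V4 →ₗ[ℂ] ℂ}

/-- the reflection `v ↦ v - 2 lam(v) e` -/
noncomputable def refl (lam : V4 →ₗ[ℂ] ℂ) (e : V4) : V4 →ₗ[ℂ] V4 :=
  LinearMap.id - (2 : ℂ) • lam.smulRight e

@[simp] lemma refl_apply (lam : V4 →ₗ[ℂ] ℂ) (e v : V4) :
    refl lam e v = v + (-2 * lam v) • e := by
  simp [refl, sub_eq_add_neg, mul_smul]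

lemma refl_refl (lam : V4 →ₗ[ℂ] ℂ) (e : V4) (h : lam e = 1) (v : V4) :
    refl lam e (refl lam e v) = v := by
  simp only [refl_apply, map_add, map_smul, h, smul_eq_mul, mul_one]
  module

/-- expansion of the cubic along the reflection -/
lemma Rep.cube_refl (hT : Rep f T) (lam : V4 →ₗ[ℂ] ℂ) (e v : V4) :
    T (refl lam e v) (refl lam e v) (refl lam e v) =
      T v v v - 6 * lam v * (T e v v - 2 * lam v * T e e v) - 8 * (lam v) ^ 3 * T e e e := by
  rw [refl_apply, hT.cube_add_smul, ← hT.wuu v e, ← hT.wwu v e]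
  ring

lemma Rep.refl_preserves (hT : Rep f T) (lam : V4 →ₗ[ℂ] ℂ) (e : V4) (hFe : T e e e = 0)
    (hlam : ∀ v, T e v v = 2 * lam v * T e e v) (v : V4) :
    T (refl lam e v) (refl lam e v) (refl lam e v) = T v v v := by
  rw [hT.cube_refl, hFe, hlam v]
  ring

lemma exists_quadratic_root (a b c : ℂ) (hc : c ≠ 0) : ∃ t : ℂ, a + b * t + c * t ^ 2 = 0 := by
  obtain ⟨d, hd⟩ := IsAlgClosed.exists_pow_nat_eq (b ^ 2 - 4 * a * c) (n := 2) (by norm_num)
  refine ⟨(-b + d) / (2 * c), ?_⟩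
  field_simp
  linear_combination hd

lemma linear_mul_linear_eq_zero (mu l : V4 →ₗ[ℂ] ℂ) (hl : l ≠ 0) (h : ∀ v, mu v * l v = 0) :
    mu = 0 := by
  obtain ⟨n0, hn0⟩ : ∃ n0, l n0 ≠ 0 := by
    by_contra hcon
    push Not at hcon
    exact hl (LinearMap.ext hcon)
  have hmun : mu n0 = 0 := (mul_eq_zero.mp (h n0)).resolve_right hn0
  refine LinearMap.ext fun v => ?_
  have key : ∀ s : ℂ, mu v * l v + (mu v * l n0 + mu n0 * l v) * s + (mu n0 * l n0) * s ^ 2 = 0 := by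
    intro s
    have := h (v + s • n0)
    simp only [map_add, map_smul, smul_eq_mul] at this
    rw [← this]; ring
  obtain ⟨-, h1, -⟩ := quad_coeffs_zero _ _ _ key
  rw [hmun, zero_mul, add_zero] at h1
  exact (mul_eq_zero.mp h1).resolve_right hn0

end Groth.Agent.H21.Cubic
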