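import Mathlib
import Groth.Agent.H21.Cubic.Refl
open MvPolynomial

namespace Groth.Agent.H21.Cubic

variable {f : MvPolynomial (Fin 4) ℂ} {T : V4 →ₗ[ℂ] V4 →ₗ[ℂ] V4 →ₗ[ℂ] ℂ}

/-- In a space of dimension `≥ 2` inside `V4`, a quadratic form `B x x` has a nontrivial zero. -/
lemma exists_isotropic (B : V4 →ₗ[ℂ] V4 →ₗ[ℂ] ℂ) (hB : ∀ x y, B x y = B y x)
    (K : Submodule ℂ V4) (hK : 2 ≤ Module.finrank ℂ K) :
    ∃ v ∈ K, v ≠ 0 ∧ B v v = 0 := by
  have hpos : 0 < Module.finrank ℂ K := by omega
  haveI : Nontrivial K := Module.finrank_pos_iff.mp hpos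
  obtain ⟨⟨x, hxK⟩, hx0⟩ := exists_ne (0 : K)
  have hx : x ≠ 0 := fun h => hx0 (Subtype.ext h)
  have hlt : Submodule.span ℂ {x} < K := by
    refine lt_of_le_of_ne ((Submodule.span_singleton_le_iff_mem _ _).mpr hxK) ?_
    intro h
    have := finrank_span_singleton (K := ℂ) hx
    rw [h] at this
    omega
  obtain ⟨y, hyK, hy⟩ := SetLike.exists_of_lt hlt
  by_cases hyy : B y y = 0
  · refine ⟨y, hyK, ?_, hyy⟩
    rintro rfl
    exact hy (Submodule.zero_mem _)
  · obtain ⟨t, ht⟩ := exists_quadratic_root (B x x) (2 * B x y) (B y y) hyy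
    refine ⟨x + t • y, K.add_mem hxK (K.smul_mem t hyK), ?_, ?_⟩
    · intro h0
      by_cases ht0 : t = 0
      · rw [ht0, zero_smul, add_zero] at h0
        exact hx h0
      · apply hy
        have : y = (-t⁻¹) • x := by
          have h1 : t • y = -x := by
            rw [add_comm] at h0
            exact eq_neg_of_add_eq_zero_left h0
          calc y = t⁻¹ • (t • y) := by rw [smul_smul, inv_mul_cancel₀ ht0, one_smul]
            _ = (-t⁻¹) • x := by rw [h1, smul_neg, neg_smul]
        rw [this]
        exact Submodule.smul_mem _ _ (Submodule.mem_span_singleton_self x)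
    · simp only [map_add, map_smul, LinearMap.add_apply, LinearMap.smul_apply, smul_eq_mul, hB y x]
      rw [← ht]; ring

theorem Rep.lambda_of_refl (hT : Rep f T) (hsm : Smooth f) {e : V4} (hFe : T e e e = 0)
    (lam : V4 →ₗ[ℂ] ℂ) (hlame : lam e = 1) (c : ℂ)
    (hc : ∀ v, T (refl lam e v) (refl lam e v) (refl lam e v) = c * T v v v) :
    ∀ v, T e v v = 2 * lam v * T e e v := by
  have key0 : ∀ v, (1 - c) * T v v v = 6 * lam v * (T e v v - 2 * lam v * T e e v) := by
    intro v
    have := hc v
    rw [hT.cube_refl, hFe] at this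
    linear_combination this
  by_cases hc1 : c = 1
  · subst hc1
    intro v
    by_cases hv : lam v = 0
    · have h1 := key0 (v + e)
      simp only [map_add, LinearMap.add_apply, hv, hlame, hFe, hT.symm23 e v e] at h1
      rw [hv]
      linear_combination (-1 / 6 : ℂ) * h1
    · have h1 := key0 v
      rw [sub_self, zero_mul] at h1
      have h2 : T e v v - 2 * lam v * T e e v = 0 := by
        have h6 : (6 : ℂ) * lam v ≠ 0 := mul_ne_zero (by norm_num) hv
        exact (mul_eq_zero.mp h1.symm).resolve_left h6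
      linear_combination h2
  · exfalso
    have hc1' : (1 - c) ≠ 0 := sub_ne_zero.mpr (Ne.symm hc1)
    have hlam0 : lam ≠ 0 := by
      intro h; rw [h] at hlame; simp at hlame
    have hK : 2 ≤ Module.finrank ℂ (LinearMap.ker lam) := by
      have := finrank_ker_of_ne_zero lam hlam0
      have hV : Module.finrank ℂ V4 = 4 := by simp [V4]
      omega
    obtain ⟨v, hvK, hv0, hvv⟩ := exists_isotropic (T e) (fun x y => hT.symm23 e x y) _ hK
    have hlv : lam v = 0 := hvK
    have hFv : T v v v = 0 := by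
      have := key0 v
      rw [hlv] at this
      simp only [mul_zero, zero_mul] at this
      exact (mul_eq_zero.mp this).resolve_left hc1'
    obtain ⟨w, hw⟩ := (hT.smooth_iff v).mp (hsm v hv0 (by rw [hT.eval_eq]; exact hFv))
    apply hw
    rw [hT.wuu v w]
    have hpoly : ∀ s : ℂ, ((1 - c) * T v v v) + (3 * (1 - c) * T v v w) * s +
        (3 * (1 - c) * T v w w - 6 * lam w * (2 * T e v w - 2 * lam w * T e e v)) * s ^ 2 +
        ((1 - c) * T w w w - 6 * lam w * (T e w w - 2 * lam w * T e e w)) * s ^ 3 = 0 := by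
      intro s
      have h1 := key0 (v + s • w)
      rw [hT.cube_add_smul] at h1
      simp only [map_add, map_smul, LinearMap.add_apply, LinearMap.smul_apply, smul_eq_mul, hlv,
        hvv, hT.symm23 e w v] at h1
      linear_combination h1
    obtain ⟨-, h1, -, -⟩ := cubic_coeffs_zero _ _ _ _ hpoly
    have h3 : (3 : ℂ) * (1 - c) ≠ 0 := mul_ne_zero (by norm_num) hc1'
    exact (mul_eq_zero.mp h1).resolve_left h3

end Groth.Agent.H21.Cubic
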