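import Mathlib
import Groth.Agent.H21.Cubic.Refl2
open MvPolynomial

namespace Groth.Agent.H21.Cubic

/-- a matrix with `rank (A - 1) = 1` and `A e = -e` is a reflection -/
theorem exists_lambda_of_matrix (A : Matrix (Fin 4) (Fin 4) ℂ) (e : V4) (he : e ≠ 0)
    (hrank : Module.finrank ℂ ↥(LinearMap.ker (Matrix.toLin' A - LinearMap.id)) = 3)
    (hAe : A.mulVec e = -e) :
    ∃ lam : V4 →ₗ[ℂ] ℂ, lam e = 1 ∧ ∀ v, A.mulVec v = refl lam e v := by
  set N : V4 →ₗ[ℂ] V4 := Matrix.toLin' A - LinearMap.id with hN
  have hNe : N e = (-2 : ℂ) • e := by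
    rw [hN, LinearMap.sub_apply, Matrix.toLin'_apply, hAe, LinearMap.id_apply]
    module
  have hV : Module.finrank ℂ V4 = 4 := by simp [V4]
  have hr : Module.finrank ℂ (LinearMap.range N) = 1 := by
    have h4 : Module.finrank ℂ (LinearMap.range N) + Module.finrank ℂ (LinearMap.ker N) = 4 :=
      (LinearMap.finrank_range_add_finrank_ker N).trans hV
    have h3 : Module.finrank ℂ (LinearMap.ker N) = 3 := hrank
    omega
  have hrange : LinearMap.range N = Submodule.span ℂ {e} := by
    symm
    apply Submodule.eq_of_le_of_finrank_eq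
    · rw [Submodule.span_singleton_le_iff_mem]
      refine ⟨(-1 / 2 : ℂ) • e, ?_⟩
      rw [map_smul, hNe, smul_smul]
      norm_num
    · rw [hr, finrank_span_singleton he]
  obtain ⟨i, hi⟩ : ∃ i, e i ≠ 0 := by
    by_contra hcon
    push Not at hcon
    exact he (funext hcon)
  set phi : V4 →ₗ[ℂ] ℂ := (e i)⁻¹ • LinearMap.proj i with hphi
  have hphie : phi e = 1 := by
    simp [hphi, inv_mul_cancel₀ hi]
  have hNv : ∀ v, N v = phi (N v) • e := by
    intro v
    have : N v ∈ Submodule.span ℂ {e} := by rw [← hrange]; exact ⟨v, rfl⟩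
    rw [Submodule.mem_span_singleton] at this
    obtain ⟨a, ha⟩ := this
    rw [← ha, map_smul, smul_eq_mul, hphie, mul_one]
  refine ⟨(-1 / 2 : ℂ) • (phi ∘ₗ N), ?_, ?_⟩
  · simp only [LinearMap.smul_apply, LinearMap.comp_apply, hNe, map_smul, hphie, smul_eq_mul]
    norm_num
  · intro v
    rw [refl_apply]
    have h1 : A.mulVec v = v + N v := by
      rw [hN, LinearMap.sub_apply, Matrix.toLin'_apply, LinearMap.id_apply]; abel
    rw [h1, hNv v]
    simp only [LinearMap.smul_apply, LinearMap.comp_apply, smul_eq_mul]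
    congr 2
    ring

/-- the matrix of a reflection -/
theorem matrix_of_refl (lam : V4 →ₗ[ℂ] ℂ) (e : V4) (he : e ≠ 0) (hlame : lam e = 1) :
    let A := LinearMap.toMatrix' (refl lam e)
    A * A = 1 ∧ Module.finrank ℂ ↥(LinearMap.ker (Matrix.toLin' A - LinearMap.id)) = 3 ∧
      A.mulVec e = -e ∧ ∀ v, A.mulVec v = refl lam e v := by
  intro A
  have hmul : ∀ v, A.mulVec v = refl lam e v := by
    intro v
    rw [← Matrix.toLin'_apply, Matrix.toLin'_toMatrix']
  refine ⟨?_, ?_, ?_, hmul⟩
  · rw [← LinearMap.toMatrix'_comp, ← LinearMap.toMatrix'_id]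
    congr 1
    exact LinearMap.ext fun v => refl_refl lam e hlame v
  · have hlam0 : lam ≠ 0 := by
      intro h; rw [h] at hlame; simp at hlame
    have hker : LinearMap.ker (Matrix.toLin' A - LinearMap.id) = LinearMap.ker lam := by
      ext v
      simp only [LinearMap.mem_ker, LinearMap.sub_apply, Matrix.toLin'_apply, hmul, refl_apply,
        LinearMap.id_apply, add_sub_cancel_left]
      constructor
      · intro h
        have h2 : (-2 * lam v) = 0 := by
          by_contra hne
          exact he ((smul_eq_zero.mp h).resolve_left hne)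
        have : (-2 : ℂ) ≠ 0 := by norm_num
        exact (mul_eq_zero.mp h2).resolve_left this
      · intro h
        rw [h, mul_zero, zero_smul]
    rw [hker]
    have hV : Module.finrank ℂ V4 = 4 := by simp [V4]
    have h4 : Module.finrank ℂ (LinearMap.ker lam) + 1 = 4 :=
      (finrank_ker_of_ne_zero lam hlam0).trans hV
    exact Nat.succ.inj h4
  · rw [hmul, refl_apply, hlame]
    module

end Groth.Agent.H21.Cubic
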