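import Mathlib
import Groth.Agent.H21.Cubic.ReflMat
open MvPolynomial

namespace Groth.Agent.H21.Cubic

/-- the four defining properties of an Eckardt involution (as in the statements) -/
def IsInvol (f : MvPolynomial (Fin 4) ℂ) (e : V4) (A : Matrix (Fin 4) (Fin 4) ℂ) : Prop :=
  A * A = 1 ∧ Module.finrank ℂ ↥(LinearMap.ker (Matrix.toLin' A - LinearMap.id)) = 3 ∧
    A.mulVec e = -e ∧ ∃ c : ℂ, aeval (fun i : Fin 4 => ∑ j : Fin 4, C (A i j) * X j) f = C c * f

variable {f : MvPolynomial (Fin 4) ℂ} {T : V4 →ₗ[ℂ] V4 →ₗ[ℂ] V4 →ₗ[ℂ] ℂ}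

lemma IsEck.eval_eq_zero {e : V4} (hE : IsEck f e) : eval e f = 0 := by
  obtain ⟨U, -, hU⟩ := hE
  exact (hU 0).2.2 e (hU 0).2.1

/-- an involution at a point of the surface is a reflection with the divisibility property -/
theorem Rep.invol_data (hT : Rep f T) (hsm : Smooth f) {e : V4} (he : e ≠ 0)
    (hFe : eval e f = 0) {A : Matrix (Fin 4) (Fin 4) ℂ} (hA : IsInvol f e A) :
    ∃ lam : V4 →ₗ[ℂ] ℂ, lam e = 1 ∧ (∀ v, A.mulVec v = refl lam e v) ∧
      ∀ v, T e v v = 2 * lam v * T e e v := by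
  obtain ⟨-, hrank, hAe, c, hc⟩ := hA
  obtain ⟨lam, hlame, hmul⟩ := exists_lambda_of_matrix A e he hrank hAe
  refine ⟨lam, hlame, hmul, ?_⟩
  rw [aeval_linear_eq_iff] at hc
  have hFe' : T e e e = 0 := by rw [← hT.eval_eq]; exact hFe
  apply hT.lambda_of_refl hsm hFe' lam hlame c
  intro v
  have := hc v
  rwa [hmul, hT.eval_eq, hT.eval_eq] at this

/-- the involution attached to `lam` -/
theorem Rep.isInvol_of_lambda (hT : Rep f T) {e : V4} (he : e ≠ 0) (hFe : eval e f = 0)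
    (lam : V4 →ₗ[ℂ] ℂ) (hlame : lam e = 1) (hlam : ∀ v, T e v v = 2 * lam v * T e e v) :
    IsInvol f e (LinearMap.toMatrix' (refl lam e)) := by
  obtain ⟨h1, h2, h3, hmul⟩ := matrix_of_refl lam e he hlame
  refine ⟨h1, h2, h3, 1, ?_⟩
  rw [aeval_linear_eq_iff]
  intro v
  have hFe' : T e e e = 0 := by rw [← hT.eval_eq]; exact hFe
  rw [hmul, hT.eval_eq, hT.eval_eq, hT.refl_preserves lam e hFe' hlam, one_mul]

/-- uniqueness of `lam` -/
theorem Rep.lambda_unique (hT : Rep f T) (hsm : Smooth f) {e : V4} (he : e ≠ 0)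
    (hFe : eval e f = 0) (lam lam' : V4 →ₗ[ℂ] ℂ)
    (hlam : ∀ v, T e v v = 2 * lam v * T e e v) (hlam' : ∀ v, T e v v = 2 * lam' v * T e e v) :
    lam = lam' := by
  have hl := hT.tangent_ne_zero hsm he hFe
  have : lam - lam' = 0 := by
    apply linear_mul_linear_eq_zero _ (T e e) hl
    intro v
    simp only [LinearMap.sub_apply]
    have h1 := hlam v
    have h2 := hlam' v
    linear_combination (1 / 2 : ℂ) * h2 - (1 / 2 : ℂ) * h1
  exact sub_eq_zero.mp this

theorem existsUnique_invol (hf : f.IsHomogeneous 3) (hsm : Smooth f) {e : V4} (he : e ≠ 0)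
    (hE : IsEck f e) : ∃! A : Matrix (Fin 4) (Fin 4) ℂ, IsInvol f e A := by
  obtain ⟨T, hT⟩ := exists_rep f hf
  have hFe := hE.eval_eq_zero
  obtain ⟨lam, hlame, hlam⟩ := hT.eckardt_lambda hsm he hE
  refine ⟨LinearMap.toMatrix' (refl lam e), hT.isInvol_of_lambda he hFe lam hlame hlam, ?_⟩
  intro A' hA'
  obtain ⟨lam', hlame', hmul', hlam'⟩ := hT.invol_data hsm he hFe hA'
  have := hT.lambda_unique hsm he hFe lam lam' hlam hlam'
  subst this
  have h1 : Matrix.toLin' A' = refl lam e := by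
    apply LinearMap.ext
    intro v
    rw [Matrix.toLin'_apply, hmul']
  rw [← h1, LinearMap.toMatrix'_toLin']

end Groth.Agent.H21.Cubic
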