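import Mathlib
import Groth.Agent.H21.Cubic.Invol
open MvPolynomial

namespace Groth.Agent.H21.Cubic

lemma exists_cubic_root (c0 c1 c2 c3 : ℂ) (h3 : c3 ≠ 0) :
    ∃ t : ℂ, c0 + c1 * t + c2 * t ^ 2 + c3 * t ^ 3 = 0 := by
  let P : Polynomial ℂ := Polynomial.C c0 + Polynomial.C c1 * Polynomial.X +
    Polynomial.C c2 * Polynomial.X ^ 2 + Polynomial.C c3 * Polynomial.X ^ 3
  have hdeg : P.degree = 3 := by
    simp only [P]
    compute_degree!
  have hne : P.degree ≠ 0 := by rw [hdeg]; norm_num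
  obtain ⟨t, ht⟩ := IsAlgClosed.exists_root P hne
  refine ⟨t, ?_⟩
  simpa [P, Polynomial.IsRoot] using ht

lemma exists_pair_of_two_le_finrank {V : Type*} [AddCommGroup V] [Module ℂ V]
    [FiniteDimensional ℂ V] (K : Submodule ℂ V) (hK : 2 ≤ Module.finrank ℂ K) :
    ∃ x ∈ K, ∃ y ∈ K, x ≠ 0 ∧ y ∉ Submodule.span ℂ {x} := by
  have hpos : 0 < Module.finrank ℂ K := by omega
  haveI : Nontrivial K := Module.finrank_pos_iff.mp hpos
  obtain ⟨⟨x, hxK⟩, hx0⟩ := exists_ne (0 : K)
  have hx : x ≠ 0 := fun h => hx0 (Subtype.ext h)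
  have hlt : Submodule.span ℂ {x} < K := by
    refine lt_of_le_of_ne ((Submodule.span_singleton_le_iff_mem _ _).mpr hxK) ?_
    intro h
    have := finrank_span_singleton (K := ℂ) hx
    rw [h] at this
    omega
  obtain ⟨y, hyK, hy⟩ := SetLike.exists_of_lt hlt
  exact ⟨x, hxK, y, hyK, hx, hy⟩

/-- independence of a pair, in coefficient form -/
lemma pair_indep {V : Type*} [AddCommGroup V] [Module ℂ V] {x y : V} (hx : x ≠ 0)
    (hy : y ∉ Submodule.span ℂ {x}) {a b : ℂ} (h : a • x + b • y = 0) : a = 0 ∧ b = 0 := by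
  have hb : b = 0 := by
    by_contra hb
    apply hy
    have : y = (-b⁻¹ * a) • x := by
      have h1 : b • y = -(a • x) := by
        rw [add_comm] at h
        exact eq_neg_of_add_eq_zero_left h
      calc y = b⁻¹ • (b • y) := by rw [smul_smul, inv_mul_cancel₀ hb, one_smul]
        _ = (-b⁻¹ * a) • x := by rw [h1, smul_neg, smul_smul, neg_mul, neg_smul]
    rw [this]
    exact Submodule.smul_mem _ _ (Submodule.mem_span_singleton_self x)
  subst hb
  rw [zero_smul, add_zero] at h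
  exact ⟨(smul_eq_zero.mp h).resolve_right hx, rfl⟩

end Groth.Agent.H21.Cubic
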