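import Mathlib
import Groth.Agent.H21.Cubic.Roots
open MvPolynomial

namespace Groth.Agent.H21.Cubic

variable {f : MvPolynomial (Fin 4) ℂ} {T : V4 →ₗ[ℂ] V4 →ₗ[ℂ] V4 →ₗ[ℂ] ℂ}

/-- the data at a point with an involution -/
structure EckCtx (T : V4 →ₗ[ℂ] V4 →ₗ[ℂ] V4 →ₗ[ℂ] ℂ) (p : V4) (lam : V4 →ₗ[ℂ] ℂ) : Prop where
  hFp : T p p p = 0
  hlamp : lam p = 1
  hlam : ∀ v, T p v v = 2 * lam v * T p p v
  hl : T p p ≠ 0

namespace EckCtx

variable {p : V4} {lam : V4 →ₗ[ℂ] ℂ}

lemma p_ne_zero (ctx : EckCtx T p lam) : p ≠ 0 := by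
  intro h
  have := ctx.hlamp
  rw [h, map_zero] at this
  exact zero_ne_one this

lemma polar (ctx : EckCtx T p lam) (hT : Rep f T) (x y : V4) :
    T p x y = lam x * T p p y + lam y * T p p x := by
  have h1 := ctx.hlam (x + y)
  have h2 := ctx.hlam x
  have h3 := ctx.hlam y
  simp only [map_add, LinearMap.add_apply, hT.symm23 p y x] at h1
  linear_combination (1 / 2 : ℂ) * h1 - (1 / 2 : ℂ) * h2 - (1 / 2 : ℂ) * h3

/-- membership in `W = ker ℓ ∩ ker lam` -/
def InW (T : V4 →ₗ[ℂ] V4 →ₗ[ℂ] V4 →ₗ[ℂ] ℂ) (p : V4) (lam : V4 →ₗ[ℂ] ℂ) (x : V4) : Prop :=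
  T p p x = 0 ∧ lam x = 0

lemma ker_eq (ctx : EckCtx T p lam) {x y : V4} (hx : x ≠ 0)
    (hy : y ∉ Submodule.span ℂ {x}) (hxW : InW T p lam x) (hyW : InW T p lam y) :
    LinearMap.ker (T p p) = Submodule.span ℂ {p, x, y} := by
  have hV : Module.finrank ℂ V4 = 4 := by simp [V4]
  apply ker_eq_span_triple hV (T p p) ctx.hl ctx.p_ne_zero
  · intro h
    rw [Submodule.mem_span_singleton] at h
    obtain ⟨c, rfl⟩ := h
    have := hxW.2
    rw [map_smul, ctx.hlamp, smul_eq_mul, mul_one] at this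
    rw [this, zero_smul] at hx
    exact hx rfl
  · intro h
    rw [Submodule.mem_span_pair] at h
    obtain ⟨a, b, rfl⟩ := h
    have := hyW.2
    rw [map_add, map_smul, map_smul, ctx.hlamp, hxW.2, smul_eq_mul, smul_eq_mul, mul_one, mul_zero,
      add_zero] at this
    apply hy
    rw [this, zero_smul, zero_add]
    exact Submodule.smul_mem _ _ (Submodule.mem_span_singleton_self x)
  · exact ctx.hFp
  · exact hxW.1
  · exact hyW.1

/-- a double zero in `W` gives a singular point -/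
theorem singular_of_double (ctx : EckCtx T p lam) (hT : Rep f T) {x y u0 : V4} (hx : x ≠ 0)
    (hy : y ∉ Submodule.span ℂ {x}) (hxW : InW T p lam x) (hyW : InW T p lam y)
    (hu0W : InW T p lam u0) (hu0 : u0 ≠ 0) (hTx : T x u0 u0 = 0) (hTy : T y u0 u0 = 0) :
    ∃ v : V4, v ≠ 0 ∧ ∀ z, T z v v = 0 := by
  obtain ⟨n0, hn0⟩ : ∃ n0, T p p n0 ≠ 0 := by
    by_contra hcon
    push Not at hcon
    exact ctx.hl (LinearMap.ext hcon)
  obtain ⟨s, hs⟩ := IsAlgClosed.exists_pow_nat_eq (-(T n0 u0 u0) / T p p n0) (n := 2) (by norm_num)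
  refine ⟨u0 + s • p, ?_, ?_⟩
  · intro h
    have h1 := congrArg lam h
    rw [map_add, map_smul, hu0W.2, ctx.hlamp, map_zero, zero_add, smul_eq_mul, mul_one] at h1
    rw [h1, zero_smul, add_zero] at h
    exact hu0 h
  · have hψ : ∀ z, T z (u0 + s • p) (u0 + s • p) = T z u0 u0 + s ^ 2 * T p p z := by
      intro z
      have h1 := hT.sq_expand z u0 p 1 s
      simp only [one_smul] at h1
      rw [h1]
      have h2 : T z u0 p = 0 := by
        rw [hT.symm13 z u0 p, hT.symm23 p u0 z, ctx.polar hT z u0, hu0W.1, hu0W.2]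
        ring
      have h3 : T z p p = T p p z := hT.symm13 z p p
      rw [h2, h3]; ring
    have hker := ctx.ker_eq hx hy hxW hyW
    intro z
    rw [hψ]
    -- decompose z
    set c := T p p z / T p p n0 with hc
    have hk : z - c • n0 ∈ LinearMap.ker (T p p) := by
      rw [LinearMap.mem_ker, map_sub, map_smul, smul_eq_mul, hc, div_mul_cancel₀ _ hn0, sub_self]
    rw [hker, Submodule.mem_span_triple] at hk
    obtain ⟨a, b, d, habd⟩ := hk
    have hz : z = a • p + b • x + d • y + c • n0 := by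
      rw [habd]; abel
    have hpu : T p u0 u0 = 0 := by rw [ctx.hlam, hu0W.2]; ring
    have e1 : T z u0 u0 = c * T n0 u0 u0 := by
      rw [hz]
      simp only [map_add, map_smul, LinearMap.add_apply, LinearMap.smul_apply, smul_eq_mul, hpu,
        hTx, hTy]
      ring
    have e2 : T p p z = c * T p p n0 := by
      rw [hc, div_mul_cancel₀ _ hn0]
    rw [e1, e2, hs]
    field_simp
    ring

end EckCtx

end Groth.Agent.H21.Cubic
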