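import Mathlib
import Groth.Agent.H21.Cubic.Ctx
open MvPolynomial

namespace Groth.Agent.H21.Cubic

variable {f : MvPolynomial (Fin 4) ℂ} {T : V4 →ₗ[ℂ] V4 →ₗ[ℂ] V4 →ₗ[ℂ] ℂ}

namespace EckCtx

variable {p : V4} {lam : V4 →ₗ[ℂ] ℂ}

lemma InW.comb {x y : V4} (hx : InW T p lam x) (hy : InW T p lam y) (a b : ℂ) :
    InW T p lam (a • x + b • y) := by
  constructor
  · rw [map_add, map_smul, map_smul, hx.1, hy.1]; simp
  · rw [map_add, map_smul, map_smul, hx.2, hy.2]; simp

/-- a first zero in `W` -/
lemma exists_first_zero (hT : Rep f T) {x y : V4} (hx : x ≠ 0)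
    (hy : y ∉ Submodule.span ℂ {x}) (hxW : InW T p lam x) (hyW : InW T p lam y) :
    ∃ u1 z : V4, InW T p lam u1 ∧ InW T p lam z ∧ u1 ≠ 0 ∧ z ∉ Submodule.span ℂ {u1} ∧
      T u1 u1 u1 = 0 := by
  by_cases hFy : T y y y = 0
  · refine ⟨y, x, hyW, hxW, ?_, ?_, hFy⟩
    · rintro rfl
      exact hy (Submodule.zero_mem _)
    · intro h
      rw [Submodule.mem_span_singleton] at h
      obtain ⟨c, hc⟩ := h
      have := pair_indep hx hy (a := -1) (b := c) (by rw [hc]; module)
      norm_num at this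
  · obtain ⟨t, ht⟩ := exists_cubic_root (T x x x) (3 * T x x y) (3 * T x y y) (T y y y) hFy
    refine ⟨x + t • y, y, ?_, hyW, ?_, ?_, ?_⟩
    · have := InW.comb hxW hyW 1 t
      rwa [one_smul] at this
    · intro h
      have := pair_indep hx hy (a := 1) (b := t) (by rw [one_smul]; exact h)
      norm_num at this
    · intro h
      rw [Submodule.mem_span_singleton] at h
      obtain ⟨c, hc⟩ := h
      have := pair_indep hx hy (a := c) (b := c * t - 1) (by
        have e : c • x + (c * t - 1) • y = c • (x + t • y) - y := by module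
        rw [e, hc, sub_self])
      obtain ⟨h1, h2⟩ := this
      rw [h1, zero_mul, zero_sub] at h2
      norm_num at h2
    · rw [hT.cube_add_smul]
      rw [← ht]; ring

/-- three pairwise non-proportional zeros in `W` -/
theorem exists_three_zeros (ctx : EckCtx T p lam) (hT : Rep f T)
    (hns : ∀ v : V4, v ≠ 0 → ¬ ∀ z, T z v v = 0) {x y : V4} (hx : x ≠ 0)
    (hy : y ∉ Submodule.span ℂ {x}) (hxW : InW T p lam x) (hyW : InW T p lam y) :
    ∃ u1 u2 u3 : V4, (InW T p lam u1 ∧ InW T p lam u2 ∧ InW T p lam u3) ∧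
      (u1 ≠ 0 ∧ u2 ≠ 0 ∧ u3 ≠ 0) ∧ (T u1 u1 u1 = 0 ∧ T u2 u2 u2 = 0 ∧ T u3 u3 u3 = 0) ∧
      u2 ∉ Submodule.span ℂ {u1} ∧ u3 ∉ Submodule.span ℂ {u1} ∧ u3 ∉ Submodule.span ℂ {u2} := by
  obtain ⟨u1, z, hu1W, hzW, hu1, hz, hF1⟩ := exists_first_zero hT hx hy hxW hyW
  set α := T u1 u1 z with hα
  set β := T u1 z z with hβ
  set γ := T z z z with hγ
  have hα0 : α ≠ 0 := by
    intro h0
    obtain ⟨v, hv, hvs⟩ := ctx.singular_of_double hT hu1 hz hu1W hzW hu1W hu1 hF1
      (by rw [hT.wuu u1 z]; exact h0)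
    exact hns v hv hvs
  have hcube : ∀ a : ℂ, T (a • u1 + z) (a • u1 + z) (a • u1 + z) =
      3 * α * a ^ 2 + 3 * β * a + γ := by
    intro a
    have := hT.cube_expand u1 z a 1
    simp only [one_smul] at this
    rw [this, hF1]; ring
  have h3α : 3 * α ≠ 0 := mul_ne_zero (by norm_num) hα0
  obtain ⟨a1, ha1⟩ := exists_quadratic_root γ (3 * β) (3 * α) h3α
  set a2 := -β / α - a1 with ha2
  have hroot2 : γ + 3 * β * a2 + 3 * α * a2 ^ 2 = 0 := by
    rw [ha2]
    field_simp
    linear_combination α * ha1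
  have hne : a1 ≠ a2 := by
    intro heq
    have h2 : 2 * a1 * α + β = 0 := by
      have : a1 = -β / α - a1 := heq
      field_simp at this
      linear_combination this
    have hu2W : InW T p lam (a1 • u1 + z) := by
      have := InW.comb hu1W hzW a1 1
      rwa [one_smul] at this
    have hu2 : a1 • u1 + z ≠ 0 := by
      intro h
      have := pair_indep hu1 hz (a := a1) (b := 1) (by rw [one_smul]; exact h)
      norm_num at this
    obtain ⟨v, hv, hvs⟩ := ctx.singular_of_double hT hu1 hz hu1W hzW hu2W hu2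
      (by
        have := hT.sq_expand u1 u1 z a1 1
        simp only [one_smul] at this
        rw [this, hF1]
        linear_combination h2)
      (by
        have := hT.sq_expand z u1 z a1 1
        simp only [one_smul] at this
        rw [this, hT.wuu u1 z, hT.wuw u1 z]
        linear_combination ha1 - a1 * h2)
    exact hns v hv hvs
  refine ⟨u1, a1 • u1 + z, a2 • u1 + z, ⟨hu1W, ?_, ?_⟩, ⟨hu1, ?_, ?_⟩, ⟨hF1, ?_, ?_⟩, ?_, ?_, ?_⟩
  · have := InW.comb hu1W hzW a1 1
    rwa [one_smul] at this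
  · have := InW.comb hu1W hzW a2 1
    rwa [one_smul] at this
  · intro h
    have := pair_indep hu1 hz (a := a1) (b := 1) (by rw [one_smul]; exact h)
    norm_num at this
  · intro h
    have := pair_indep hu1 hz (a := a2) (b := 1) (by rw [one_smul]; exact h)
    norm_num at this
  · rw [hcube]; linear_combination ha1
  · rw [hcube]; linear_combination hroot2
  · intro h
    rw [Submodule.mem_span_singleton] at h
    obtain ⟨c, hc⟩ := h
    have := pair_indep hu1 hz (a := a1 - c) (b := 1) (by
      rw [one_smul, sub_smul, hc]; abel)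
    norm_num at this
  · intro h
    rw [Submodule.mem_span_singleton] at h
    obtain ⟨c, hc⟩ := h
    have := pair_indep hu1 hz (a := a2 - c) (b := 1) (by
      rw [one_smul, sub_smul, hc]; abel)
    norm_num at this
  · intro h
    rw [Submodule.mem_span_singleton] at h
    obtain ⟨c, hc⟩ := h
    have := pair_indep hu1 hz (a := c * a1 - a2) (b := c - 1) (by
      have e : (c * a1 - a2) • u1 + (c - 1) • z = c • (a1 • u1 + z) - (a2 • u1 + z) := by module
      rw [e, hc, sub_self])
    obtain ⟨h1, h2⟩ := this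
    have hc1 : c = 1 := by linear_combination h2
    rw [hc1, one_mul] at h1
    exact hne (by linear_combination h1)

end EckCtx

end Groth.Agent.H21.Cubic
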