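import Mathlib
import Groth.Agent.H21.Cubic.Zeros
open MvPolynomial

namespace Groth.Agent.H21.Cubic

variable {f : MvPolynomial (Fin 4) ℂ} {T : V4 →ₗ[ℂ] V4 →ₗ[ℂ] V4 →ₗ[ℂ] ℂ}

lemma finrank_span_pair' {V : Type*} [AddCommGroup V] [Module ℂ V] {e u : V} (he : e ≠ 0)
    (hu : u ∉ Submodule.span ℂ {e}) : Module.finrank ℂ (Submodule.span ℂ {e, u}) = 2 := by
  have hli : LinearIndependent ℂ ![e, u] := by
    rw [LinearIndependent.pair_iff' he]
    intro a ha
    apply hu
    rw [← ha]
    exact Submodule.smul_mem _ _ (Submodule.mem_span_singleton_self e)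
  have := finrank_span_eq_card hli
  simp only [Fintype.card_fin] at this
  have hr : Set.range ![e, u] = {e, u} := by
    ext x
    simp only [Matrix.range_cons, Matrix.range_empty, Set.union_empty, Set.mem_union,
      Set.mem_singleton_iff, Set.mem_insert_iff]
  rw [hr] at this
  exact this

lemma not_mem_span_symm {V : Type*} [AddCommGroup V] [Module ℂ V] {u v : V} (hu : u ≠ 0)
    (h : v ∉ Submodule.span ℂ {u}) : u ∉ Submodule.span ℂ {v} := by
  intro hmem
  rw [Submodule.mem_span_singleton] at hmem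
  obtain ⟨c, hc⟩ := hmem
  have hc0 : c ≠ 0 := by
    rintro rfl
    rw [zero_smul] at hc
    exact hu hc.symm
  apply h
  rw [Submodule.mem_span_singleton]
  exact ⟨c⁻¹, by rw [← hc, smul_smul, inv_mul_cancel₀ hc0, one_smul]⟩

lemma Smooth.no_sing (hsm : Smooth f) (hT : Rep f T) (v : V4) (hv : v ≠ 0) :
    ¬ ∀ z, T z v v = 0 := by
  intro h
  have hF : eval v f = 0 := by rw [hT.eval_eq]; exact h v
  obtain ⟨w, hw⟩ := (hT.smooth_iff v).mp (hsm v hv hF)
  exact hw (h w)

/-- a point with an involution is an Eckardt point -/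
theorem isEck_of_ctx {p : V4} {lam : V4 →ₗ[ℂ] ℂ} (hT : Rep f T) (hsm : Smooth f)
    (ctx : EckCtx T p lam) : IsEck f p := by
  have hp := ctx.p_ne_zero
  have hV : Module.finrank ℂ V4 = 4 := by simp [V4]
  -- two independent vectors in W
  have hlam0 : lam ≠ 0 := by
    intro h
    have := ctx.hlamp
    rw [h] at this
    simp at this
  have hK : 2 ≤ Module.finrank ℂ ↥(LinearMap.ker (T p p) ⊓ LinearMap.ker lam) := by
    have h1 := Submodule.finrank_sup_add_finrank_inf_eq (LinearMap.ker (T p p)) (LinearMap.ker lam)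
    have h2 : Module.finrank ℂ ↥(LinearMap.ker (T p p) ⊔ LinearMap.ker lam) ≤ 4 :=
      (Submodule.finrank_le _).trans_eq hV
    have h3 : Module.finrank ℂ (LinearMap.ker (T p p)) + 1 = 4 :=
      (finrank_ker_of_ne_zero (T p p) ctx.hl).trans hV
    have h4 : Module.finrank ℂ (LinearMap.ker lam) + 1 = 4 :=
      (finrank_ker_of_ne_zero lam hlam0).trans hV
    omega
  obtain ⟨x, hxK, y, hyK, hx, hy⟩ := exists_pair_of_two_le_finrank _ hK
  have hxW : EckCtx.InW T p lam x := ⟨hxK.1, hxK.2⟩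
  have hyW : EckCtx.InW T p lam y := ⟨hyK.1, hyK.2⟩
  obtain ⟨u1, u2, u3, ⟨hW1, hW2, hW3⟩, ⟨h01, h02, h03⟩, ⟨hF1, hF2, hF3⟩, h21, h31, h32⟩ :=
    ctx.exists_three_zeros hT (fun v hv => hsm.no_sing hT v hv) hx hy hxW hyW
  -- general facts about a zero in W
  have hnotp : ∀ u : V4, EckCtx.InW T p lam u → u ≠ 0 → u ∉ Submodule.span ℂ {p} := by
    intro u huW hu0 h
    rw [Submodule.mem_span_singleton] at h
    obtain ⟨c, rfl⟩ := h
    have := huW.2
    rw [map_smul, ctx.hlamp, smul_eq_mul, mul_one] at this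
    rw [this, zero_smul] at hu0
    exact hu0 rfl
  have hline : ∀ u : V4, EckCtx.InW T p lam u → T u u u = 0 →
      ∀ v ∈ Submodule.span ℂ {p, u}, eval v f = 0 := by
    intro u huW hFu v hv
    rw [Submodule.mem_span_pair] at hv
    obtain ⟨a, b, rfl⟩ := hv
    rw [hT.eval_eq, hT.cube_expand, ctx.hFp, huW.1, ctx.hlam u, huW.2, hFu]
    ring
  have hdist : ∀ u u' : V4, EckCtx.InW T p lam u → EckCtx.InW T p lam u' →
      u' ∉ Submodule.span ℂ {u} → u' ∉ Submodule.span ℂ {p, u} := by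
    intro u u' huW hu'W hnot h
    rw [Submodule.mem_span_pair] at h
    obtain ⟨a, b, hab⟩ := h
    apply hnot
    have h1 := congrArg lam hab
    rw [map_add, map_smul, map_smul, ctx.hlamp, huW.2, hu'W.2, smul_eq_mul, smul_eq_mul, mul_one,
      mul_zero, add_zero] at h1
    rw [h1, zero_smul, zero_add] at hab
    rw [← hab]
    exact Submodule.smul_mem _ _ (Submodule.mem_span_singleton_self u)
  obtain ⟨u, hu⟩ : ∃ u : Fin 3 → V4, u = ![u1, u2, u3] := ⟨_, rfl⟩
  have e0 : u 0 = u1 := by rw [hu]; rfl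
  have e1 : u 1 = u2 := by rw [hu]; rfl
  have e2 : u 2 = u3 := by rw [hu]; rfl
  have huW : ∀ i, EckCtx.InW T p lam (u i) := by
    intro i; fin_cases i
    · show EckCtx.InW T p lam (u 0); rw [e0]; exact hW1
    · show EckCtx.InW T p lam (u 1); rw [e1]; exact hW2
    · show EckCtx.InW T p lam (u 2); rw [e2]; exact hW3
  have hu0 : ∀ i, u i ≠ 0 := by
    intro i; fin_cases i
    · show u 0 ≠ 0; rw [e0]; exact h01
    · show u 1 ≠ 0; rw [e1]; exact h02
    · show u 2 ≠ 0; rw [e2]; exact h03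
  have hFu : ∀ i, T (u i) (u i) (u i) = 0 := by
    intro i; fin_cases i
    · show T (u 0) (u 0) (u 0) = 0; rw [e0]; exact hF1
    · show T (u 1) (u 1) (u 1) = 0; rw [e1]; exact hF2
    · show T (u 2) (u 2) (u 2) = 0; rw [e2]; exact hF3
  have hpair : ∀ i j, i ≠ j → u j ∉ Submodule.span ℂ {u i} := by
    intro i j hij
    fin_cases i <;> fin_cases j
    · exact absurd rfl hij
    · show u 1 ∉ Submodule.span ℂ {u 0}; rw [e0, e1]; exact h21
    · show u 2 ∉ Submodule.span ℂ {u 0}; rw [e0, e2]; exact h31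
    · show u 0 ∉ Submodule.span ℂ {u 1}; rw [e0, e1]; exact not_mem_span_symm h01 h21
    · exact absurd rfl hij
    · show u 2 ∉ Submodule.span ℂ {u 1}; rw [e1, e2]; exact h32
    · show u 0 ∉ Submodule.span ℂ {u 2}; rw [e0, e2]; exact not_mem_span_symm h01 h31
    · show u 1 ∉ Submodule.span ℂ {u 2}; rw [e1, e2]; exact not_mem_span_symm h02 h32
    · exact absurd rfl hij
  refine ⟨fun i => Submodule.span ℂ {p, u i}, ?_, ?_⟩
  · intro i j hij
    by_contra hne
    have hij' : Submodule.span ℂ {p, u i} = Submodule.span ℂ {p, u j} := hij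
    have h1 : u j ∈ Submodule.span ℂ {p, u j} := Submodule.subset_span (by simp)
    rw [← hij'] at h1
    exact hdist (u i) (u j) (huW i) (huW j) (hpair i j hne) h1
  · intro i
    exact ⟨finrank_span_pair' hp (hnotp (u i) (huW i) (hu0 i)), Submodule.subset_span (by simp),
      hline (u i) (huW i) (hFu i)⟩

end Groth.Agent.H21.Cubic
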