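import Mathlib
import Groth.Agent.H21.Cubic.EckOfInvol
open MvPolynomial

namespace Groth.Agent.H21.Cubic

variable {f : MvPolynomial (Fin 4) ℂ} {T : V4 →ₗ[ℂ] V4 →ₗ[ℂ] V4 →ₗ[ℂ] ℂ}

lemma IsEck.map {e : V4} (hE : IsEck f e) (φ : V4 →ₗ[ℂ] V4) (hinj : Function.Injective φ)
    (hφ : ∀ v, eval (φ v) f = eval v f) : IsEck f (φ e) := by
  obtain ⟨U, hU, h⟩ := hE
  refine ⟨fun i => (U i).map φ, ?_, ?_⟩
  · intro i j hij
    exact hU (Submodule.map_injective_of_injective hinj hij)
  · intro i
    refine ⟨?_, Submodule.mem_map_of_mem (h i).2.1, ?_⟩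
    · rw [← (h i).1]
      exact (LinearEquiv.finrank_eq (Submodule.equivMapOfInjective φ hinj (U i))).symm
    · rintro _ ⟨u, hu, rfl⟩
      rw [hφ]; exact (h i).2.2 u hu

lemma refl_injective (lam : V4 →ₗ[ℂ] ℂ) (e : V4) (h : lam e = 1) :
    Function.Injective (refl lam e) := by
  intro x y hxy
  have := congrArg (refl lam e) hxy
  rwa [refl_refl lam e h, refl_refl lam e h] at this

/-- restriction of the cubic to the line through two Eckardt points -/
lemma Rep.two_eck_restrict (hT : Rep f T) {e e' : V4} {lam lam' : V4 →ₗ[ℂ] ℂ}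
    (hFe : T e e e = 0) (hFe' : T e' e' e' = 0)
    (hlam : ∀ v, T e v v = 2 * lam v * T e e v)
    (hlam' : ∀ v, T e' v v = 2 * lam' v * T e' e' v) :
    T e' e' e = 2 * lam e' * T e e e' ∧ T e e e' = 2 * lam' e * T e' e' e ∧
    ∀ a b : ℂ, T (a • e + b • e') (a • e + b • e') (a • e + b • e') =
      3 * a * b * T e e e' * (a + 2 * lam e' * b) := by
  have h1 : T e' e' e = 2 * lam e' * T e e e' := by
    rw [← hlam e', hT.wwu e e']
  have h2 : T e e e' = 2 * lam' e * T e' e' e := by
    rw [← hlam' e, hT.wuu e e']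
  refine ⟨h1, h2, ?_⟩
  intro a b
  rw [hT.cube_expand, hFe, hFe', hlam e']
  ring

/-- the line through two Eckardt points -/
theorem line_two_eck (hf : f.IsHomogeneous 3) (hsm : Smooth f) {e e' : V4} (he : e ≠ 0)
    (he' : e' ∉ Submodule.span ℂ {e}) (hE : IsEck f e) (hE' : IsEck f e') :
    Xor (∀ u ∈ Submodule.span ℂ {e, e'}, eval u f = 0)
      (∃ e'' : V4, e'' ∈ Submodule.span ℂ {e, e'} ∧ e'' ∉ Submodule.span ℂ {e} ∧
        e'' ∉ Submodule.span ℂ {e'} ∧ IsEck f e'' ∧
        ∀ u ∈ Submodule.span ℂ {e, e'}, eval u f = 0 →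
          u ∈ Submodule.span ℂ {e} ∨ u ∈ Submodule.span ℂ {e'} ∨ u ∈ Submodule.span ℂ {e''}) := by
  obtain ⟨T, hT⟩ := exists_rep f hf
  have he'0 : e' ≠ 0 := by
    rintro rfl
    exact he' (Submodule.zero_mem _)
  have hFe : T e e e = 0 := by rw [← hT.eval_eq]; exact hE.eval_eq_zero
  have hFe' : T e' e' e' = 0 := by rw [← hT.eval_eq]; exact hE'.eval_eq_zero
  obtain ⟨lam, hlame, hlam⟩ := hT.eckardt_lambda hsm he hE
  obtain ⟨lam', hlame', hlam'⟩ := hT.eckardt_lambda hsm he'0 hE'
  obtain ⟨h1, h2, hcube⟩ := hT.two_eck_restrict hFe hFe' hlam hlam'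
  by_cases h0 : T e e e' = 0
  · -- the line lies on the surface
    left
    have hall : ∀ u ∈ Submodule.span ℂ {e, e'}, eval u f = 0 := by
      intro u hu
      rw [Submodule.mem_span_pair] at hu
      obtain ⟨a, b, rfl⟩ := hu
      rw [hT.eval_eq, hcube, h0]; ring
    refine ⟨hall, ?_⟩
    rintro ⟨e'', -, hne, hne', -, hz⟩
    have hmem : ∀ a b : ℂ, a • e + b • e' ∈ Submodule.span ℂ {e, e'} := fun a b =>
      Submodule.mem_span_pair.mpr ⟨a, b, rfl⟩
    have key : ∀ b : ℂ, b ≠ 0 → e + b • e' ∈ Submodule.span ℂ {e''} := by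
      intro b hb
      have hm : e + b • e' ∈ Submodule.span ℂ {e, e'} := by
        have := hmem 1 b
        rwa [one_smul] at this
      rcases hz _ hm (hall _ hm) with h | h | h
      · exfalso
        rw [Submodule.mem_span_singleton] at h
        obtain ⟨c, hc⟩ := h
        have := pair_indep he he' (a := c - 1) (b := -b) (by rw [sub_smul, hc]; module)
        exact hb (neg_eq_zero.mp this.2)
      · exfalso
        rw [Submodule.mem_span_singleton] at h
        obtain ⟨c, hc⟩ := h
        have := pair_indep he he' (a := 1) (b := b - c) (by rw [sub_smul, hc]; module)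
        exact one_ne_zero this.1
      · exact h
    have k1 := key 1 one_ne_zero
    have k2 := key 2 two_ne_zero
    rw [Submodule.mem_span_singleton] at k1 k2
    obtain ⟨c, hc⟩ := k1
    obtain ⟨d, hd⟩ := k2
    have := pair_indep he he' (a := d - c) (b := d - 2 * c) (by
      have : (d - c) • e + (d - 2 * c) • e' = d • (e + (1:ℂ) • e') - c • (e + (2:ℂ) • e') := by
        module
      rw [this, ← hc, ← hd]; module)
    obtain ⟨hdc, hd2c⟩ := this
    have hc0 : c = 0 := by linear_combination hdc - hd2c
    rw [hc0, zero_smul] at hc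
    have := pair_indep he he' (a := 1) (b := 1) (by rw [one_smul, hc])
    exact one_ne_zero this.1
  · right
    have hlam0 : lam e' ≠ 0 := by
      intro h
      rw [h, mul_zero, zero_mul] at h1
      rw [h1, mul_zero] at h2
      exact h0 h2
    refine ⟨⟨refl lam e e', ?_, ?_, ?_, ?_, ?_⟩, ?_⟩
    · rw [refl_apply, Submodule.mem_span_pair]
      exact ⟨-2 * lam e', 1, by module⟩
    · intro h
      rw [Submodule.mem_span_singleton] at h
      obtain ⟨c, hc⟩ := h
      rw [refl_apply] at hc
      have := pair_indep he he' (a := c + 2 * lam e') (b := -1) (by rw [add_smul, hc]; module)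
      have := this.2
      norm_num at this
    · intro h
      rw [Submodule.mem_span_singleton] at h
      obtain ⟨c, hc⟩ := h
      rw [refl_apply] at hc
      have := pair_indep he he' (a := 2 * lam e') (b := c - 1) (by rw [sub_smul, hc]; module)
      have := this.1
      exact hlam0 (by linear_combination (1/2 : ℂ) * this)
    · apply hE'.map (refl lam e) (refl_injective lam e hlame)
      intro v
      rw [hT.eval_eq, hT.eval_eq, hT.refl_preserves lam e hFe hlam]
    · intro u hu hFu
      rw [Submodule.mem_span_pair] at hu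
      obtain ⟨a, b, rfl⟩ := hu
      rw [hT.eval_eq, hcube] at hFu
      rcases mul_eq_zero.mp hFu with h | h
      · rcases mul_eq_zero.mp h with h | h
        · rcases mul_eq_zero.mp h with h | h
          · rcases mul_eq_zero.mp h with h | h
            · norm_num at h
            · right; left
              rw [h, zero_smul, zero_add]
              exact Submodule.smul_mem _ _ (Submodule.mem_span_singleton_self _)
          · left
            rw [h, zero_smul, add_zero]
            exact Submodule.smul_mem _ _ (Submodule.mem_span_singleton_self _)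
        · exact absurd h h0
      · right; right
        rw [Submodule.mem_span_singleton]
        refine ⟨b, ?_⟩
        rw [refl_apply]
        have ha : a = -2 * lam e' * b := by linear_combination h
        rw [ha]; module
    · intro hall
      have hm1 : e + e' ∈ Submodule.span ℂ {e, e'} :=
        Submodule.mem_span_pair.mpr ⟨1, 1, by module⟩
      have hm2 : e - e' ∈ Submodule.span ℂ {e, e'} :=
        Submodule.mem_span_pair.mpr ⟨1, -1, by module⟩
      have e1 := hall _ hm1
      have e2 := hall _ hm2
      have c1 := hcube 1 1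
      have c2 := hcube 1 (-1)
      rw [one_smul, one_smul, ← hT.eval_eq, e1] at c1
      rw [one_smul, neg_one_smul, ← sub_eq_add_neg, ← hT.eval_eq, e2] at c2
      apply h0
      linear_combination (-1/6 : ℂ) * c1 + (1/6 : ℂ) * c2

end Groth.Agent.H21.Cubic
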