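import Mathlib
import Groth.Agent.H21.Cubic.TwoEck
open MvPolynomial

namespace Groth.Agent.H21.Cubic

variable {f : MvPolynomial (Fin 4) ℂ} {T : V4 →ₗ[ℂ] V4 →ₗ[ℂ] V4 →ₗ[ℂ] ℂ}

lemma toLin'_eq_of_mulVec {A : Matrix (Fin 4) (Fin 4) ℂ} {φ : V4 →ₗ[ℂ] V4}
    (h : ∀ v, A.mulVec v = φ v) : Matrix.toLin' A = φ :=
  LinearMap.ext fun v => by rw [Matrix.toLin'_apply, h]

lemma matrix_eq_of_mulVec {A B : Matrix (Fin 4) (Fin 4) ℂ}
    (h : ∀ v : V4, A.mulVec v = B.mulVec v) : A = B := by
  apply Matrix.toLin'.injective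
  exact LinearMap.ext fun v => by rw [Matrix.toLin'_apply, Matrix.toLin'_apply, h]

/-- if the line through two Eckardt points lies on the surface then `lam e' = 0` -/
lemma Rep.lam_eq_zero_of_line (hT : Rep f T) (hsm : Smooth f) {e e' : V4} (he : e ≠ 0)
    (he' : e' ∉ Submodule.span ℂ {e}) {lam lam' : V4 →ₗ[ℂ] ℂ}
    (hlame : lam e = 1) (hlame' : lam' e' = 1)
    (hlam : ∀ v, T e v v = 2 * lam v * T e e v)
    (hlam' : ∀ v, T e' v v = 2 * lam' v * T e' e' v)
    (hL : ∀ u ∈ Submodule.span ℂ {e, e'}, eval u f = 0) : lam e' = 0 := by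
  have he'0 : e' ≠ 0 := by
    rintro rfl
    exact he' (Submodule.zero_mem _)
  have hme : e ∈ Submodule.span ℂ {e, e'} := Submodule.subset_span (by simp)
  have hme' : e' ∈ Submodule.span ℂ {e, e'} := Submodule.subset_span (by simp)
  have hFe : T e e e = 0 := by rw [← hT.eval_eq]; exact hL e hme
  have hFe' : T e' e' e' = 0 := by rw [← hT.eval_eq]; exact hL e' hme'
  obtain ⟨z1, z2⟩ := hT.line_vanish _ hL hme hme'
  have z3 : T e' e' e = 0 := by rw [hT.wwu e e']; exact z2
  have ctx : EckCtx T e lam := ⟨hFe, hlame, hlam, hT.tangent_ne_zero hsm he (hL e hme)⟩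
  have ctx' : EckCtx T e' lam' := ⟨hFe', hlame', hlam', hT.tangent_ne_zero hsm he'0 (hL e' hme')⟩
  have hm : ∀ v, lam e' * T e e v = lam' e * T e' e' v := by
    intro v
    have p1 := ctx.polar hT e' v
    have p2 := ctx'.polar hT e v
    rw [z1] at p1
    rw [z3] at p2
    rw [hT.symm12 e' e v] at p2
    linear_combination p2 - p1
  by_contra hα
  have hβ : lam' e ≠ 0 := by
    intro h
    apply ctx.hl
    apply LinearMap.ext
    intro v
    have := hm v
    rw [h, zero_mul] at this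
    exact (mul_eq_zero.mp this).resolve_left hα
  obtain ⟨a, ha⟩ := exists_quadratic_root (lam e' / lam' e) (2 * lam e') 1 one_ne_zero
  have hu0 : a • e + e' ≠ 0 := by
    intro h
    have := pair_indep he he' (a := a) (b := 1) (by rw [one_smul]; exact h)
    exact one_ne_zero this.2
  have hmu : a • e + e' ∈ Submodule.span ℂ {e, e'} :=
    Submodule.mem_span_pair.mpr ⟨a, 1, by rw [one_smul]⟩
  apply hT.tangent_ne_zero hsm hu0 (hL _ hmu)
  apply LinearMap.ext
  intro v
  have p1 := ctx.polar hT e' v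
  rw [z1] at p1
  have hv' : T e' e' v = lam e' / lam' e * T e e v := by
    have := hm v
    field_simp
    linear_combination -this
  simp only [map_add, map_smul, LinearMap.add_apply, LinearMap.smul_apply, smul_eq_mul,
    LinearMap.zero_apply]
  rw [hT.symm12 e' e v, p1, hv']
  linear_combination (T e e v) * ha

end Groth.Agent.H21.Cubic

namespace Groth.Agent.H21.Cubic

variable {f : MvPolynomial (Fin 4) ℂ} {T : V4 →ₗ[ℂ] V4 →ₗ[ℂ] V4 →ₗ[ℂ] ℂ}

/-- involutions of two Eckardt points on a line of the surface commute -/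
theorem invol_commute_of_line (hf : f.IsHomogeneous 3) (hsm : Smooth f) {e e' : V4} (he : e ≠ 0)
    (he' : e' ∉ Submodule.span ℂ {e})
    (hL : ∀ u ∈ Submodule.span ℂ {e, e'}, eval u f = 0)
    {A A' : Matrix (Fin 4) (Fin 4) ℂ} (hA : IsInvol f e A) (hA' : IsInvol f e' A') :
    A * A' = A' * A ∧ A.mulVec e' = e' ∧ A'.mulVec e = e := by
  obtain ⟨T, hT⟩ := exists_rep f hf
  have he'0 : e' ≠ 0 := by
    rintro rfl
    exact he' (Submodule.zero_mem _)
  have hme : e ∈ Submodule.span ℂ {e, e'} := Submodule.subset_span (by simp)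
  have hme' : e' ∈ Submodule.span ℂ {e, e'} := Submodule.subset_span (by simp)
  obtain ⟨lam, hlame, hmul, hlam⟩ := hT.invol_data hsm he (hL e hme) hA
  obtain ⟨lam', hlame', hmul', hlam'⟩ := hT.invol_data hsm he'0 (hL e' hme') hA'
  have hα : lam e' = 0 := hT.lam_eq_zero_of_line hsm he he' hlame hlame' hlam hlam' hL
  have hβ : lam' e = 0 := by
    apply hT.lam_eq_zero_of_line hsm he'0 (not_mem_span_symm he he') hlame' hlame hlam' hlam
    rw [Set.pair_comm]
    exact hL
  refine ⟨?_, ?_, ?_⟩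
  · apply matrix_eq_of_mulVec
    intro v
    rw [← Matrix.mulVec_mulVec, ← Matrix.mulVec_mulVec, hmul', hmul, hmul, hmul']
    simp only [refl_apply, map_add, map_smul, hα, hβ, smul_eq_mul]
    module
  · rw [hmul, refl_apply, hα]; module
  · rw [hmul', refl_apply, hβ]; module

end Groth.Agent.H21.Cubic
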