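import Mathlib
import Groth.Agent.H21.Cubic.Commute
open MvPolynomial

namespace Groth.Agent.H21.Cubic

variable {f : MvPolynomial (Fin 4) ℂ} {T : V4 →ₗ[ℂ] V4 →ₗ[ℂ] V4 →ₗ[ℂ] ℂ}

/-- the involution of the third collinear Eckardt point is the conjugate `A A' A` -/
theorem conj_invol (hf : f.IsHomogeneous 3) (hsm : Smooth f) {e e' e'' : V4} (he : e ≠ 0)
    (he' : e' ∉ Submodule.span ℂ {e}) (he''1 : e'' ∉ Submodule.span ℂ {e})
    (he''2 : e'' ∉ Submodule.span ℂ {e'}) (he''L : e'' ∈ Submodule.span ℂ {e, e'})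
    (hE : IsEck f e) (hE' : IsEck f e') (hE'' : IsEck f e'')
    (hL : ¬ ∀ u ∈ Submodule.span ℂ {e, e'}, eval u f = 0)
    {A A' A'' : Matrix (Fin 4) (Fin 4) ℂ} (hA : IsInvol f e A) (hA' : IsInvol f e' A')
    (hA'' : IsInvol f e'' A'') :
    A'' = A * A' * A ∧ ∃ b : ℂ, e'' = b • A.mulVec e' := by
  obtain ⟨T, hT⟩ := exists_rep f hf
  have he'0 : e' ≠ 0 := by
    rintro rfl
    exact he' (Submodule.zero_mem _)
  have he''0 : e'' ≠ 0 := by
    rintro rfl
    exact he''1 (Submodule.zero_mem _)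
  have hFe : T e e e = 0 := by rw [← hT.eval_eq]; exact hE.eval_eq_zero
  have hFe' : T e' e' e' = 0 := by rw [← hT.eval_eq]; exact hE'.eval_eq_zero
  have hFe'' : T e'' e'' e'' = 0 := by rw [← hT.eval_eq]; exact hE''.eval_eq_zero
  obtain ⟨lam, hlame, hmul, hlam⟩ := hT.invol_data hsm he hE.eval_eq_zero hA
  obtain ⟨lam', hlame', hmul', hlam'⟩ := hT.invol_data hsm he'0 hE'.eval_eq_zero hA'
  obtain ⟨h1, h2, hcube⟩ := hT.two_eck_restrict hFe hFe' hlam hlam'
  have h0 : T e e e' ≠ 0 := by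
    intro h0
    apply hL
    intro u hu
    rw [Submodule.mem_span_pair] at hu
    obtain ⟨a, b, rfl⟩ := hu
    rw [hT.eval_eq, hcube, h0]; ring
  -- locate e''
  rw [Submodule.mem_span_pair] at he''L
  obtain ⟨a, b, hab⟩ := he''L
  have ha : a ≠ 0 := by
    rintro rfl
    apply he''2
    rw [← hab, zero_smul, zero_add]
    exact Submodule.smul_mem _ _ (Submodule.mem_span_singleton_self _)
  have hb : b ≠ 0 := by
    rintro rfl
    apply he''1
    rw [← hab, zero_smul, add_zero]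
    exact Submodule.smul_mem _ _ (Submodule.mem_span_singleton_self _)
  have hzero := hFe''
  rw [← hab, hcube] at hzero
  have ha2 : a = -2 * lam e' * b := by
    have h3 : (3 : ℂ) ≠ 0 := by norm_num
    have := (mul_eq_zero.mp hzero).resolve_left
      (mul_ne_zero (mul_ne_zero (mul_ne_zero h3 ha) hb) h0)
    linear_combination this
  have he3 : e'' = b • refl lam e e' := by
    rw [← hab, ha2, refl_apply]; module
  have he30 : refl lam e e' ≠ 0 := by
    intro h
    rw [h, smul_zero] at he3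
    exact he''0 he3
  -- the conjugate as a reflection
  obtain ⟨mu, hmu⟩ : ∃ mu : V4 →ₗ[ℂ] ℂ, mu = lam' ∘ₗ refl lam e := ⟨_, rfl⟩
  have hmue : mu (refl lam e e') = 1 := by
    rw [hmu, LinearMap.comp_apply, refl_refl lam e hlame, hlame']
  have hmul3 : ∀ v, (A * A' * A).mulVec v = refl mu (refl lam e e') v := by
    intro v
    rw [← Matrix.mulVec_mulVec, ← Matrix.mulVec_mulVec, hmul v, hmul', hmul]
    rw [refl_apply lam' e', map_add, map_smul, refl_refl lam e hlame, refl_apply mu, hmu,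
      LinearMap.comp_apply]
  obtain ⟨m1, m2, m3, m4⟩ := matrix_of_refl mu (refl lam e e') he30 hmue
  have hA3 : A * A' * A = LinearMap.toMatrix' (refl mu (refl lam e e')) := by
    apply matrix_eq_of_mulVec
    intro v
    rw [hmul3, m4]
  have hpres : ∀ v, eval (A.mulVec v) f = eval v f := by
    intro v
    rw [hmul, hT.eval_eq, hT.eval_eq, hT.refl_preserves lam e hFe hlam]
  have hpres' : ∀ v, eval (A'.mulVec v) f = eval v f := by
    intro v
    rw [hmul', hT.eval_eq, hT.eval_eq, hT.refl_preserves lam' e' hFe' hlam']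
  have hI : IsInvol f e'' (A * A' * A) := by
    refine ⟨?_, ?_, ?_, 1, ?_⟩
    · rw [hA3]; exact m1
    · rw [hA3]; exact m2
    · rw [hA3, he3, Matrix.mulVec_smul, m3, smul_neg]
    · rw [aeval_linear_eq_iff]
      intro v
      rw [← Matrix.mulVec_mulVec, ← Matrix.mulVec_mulVec, hpres, hpres', hpres, one_mul]
  refine ⟨(existsUnique_invol hf hsm he''0 hE'').unique hA'' hI, b, ?_⟩
  rw [hmul]; exact he3

end Groth.Agent.H21.Cubic

namespace Groth.Agent.H21.Cubic

variable {f : MvPolynomial (Fin 4) ℂ}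

/-- three collinear Eckardt points off the surface: the involutions generate `S₃` -/
theorem invol_S3 (hf : f.IsHomogeneous 3) (hsm : Smooth f) {e e' e'' : V4} (he : e ≠ 0)
    (he' : e' ∉ Submodule.span ℂ {e}) (he''1 : e'' ∉ Submodule.span ℂ {e})
    (he''2 : e'' ∉ Submodule.span ℂ {e'}) (he''L : e'' ∈ Submodule.span ℂ {e, e'})
    (hE : IsEck f e) (hE' : IsEck f e') (hE'' : IsEck f e'')
    (hL : ¬ ∀ u ∈ Submodule.span ℂ {e, e'}, eval u f = 0)
    {A A' A'' : Matrix (Fin 4) (Fin 4) ℂ} (hA : IsInvol f e A) (hA' : IsInvol f e' A')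
    (hA'' : IsInvol f e'' A'') :
    (¬ ∃ c : ℂ, A * A' = c • (1 : Matrix (Fin 4) (Fin 4) ℂ)) ∧
      (A * A') ^ 3 = 1 ∧ A'' = A * A' * A := by
  have he'0 : e' ≠ 0 := by
    rintro rfl
    exact he' (Submodule.zero_mem _)
  obtain ⟨h3, b, hb⟩ := conj_invol hf hsm he he' he''1 he''2 he''L hE hE' hE'' hL hA hA' hA''
  obtain ⟨h3', -, -⟩ := conj_invol hf hsm he'0 (not_mem_span_symm he he') he''2 he''1
    (by rw [Set.pair_comm]; exact he''L) hE' hE hE'' (by rw [Set.pair_comm]; exact hL) hA' hA hA''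
  refine ⟨?_, ?_, h3⟩
  · rintro ⟨c, hc⟩
    apply he''2
    have h1 : (A * A').mulVec e' = c • e' := by
      rw [hc, Matrix.smul_mulVec, Matrix.one_mulVec]
    rw [← Matrix.mulVec_mulVec, hA'.2.2.1, Matrix.mulVec_neg] at h1
    have h2 : A.mulVec e' = (-c) • e' := by
      rw [neg_smul, ← h1, neg_neg]
    rw [hb, h2, smul_smul]
    exact Submodule.smul_mem _ _ (Submodule.mem_span_singleton_self _)
  · calc (A * A') ^ 3 = (A * A' * A) * (A' * A * A') := by noncomm_ring
      _ = A'' * A'' := by rw [← h3, ← h3']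
      _ = 1 := hA''.1

end Groth.Agent.H21.Cubic
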